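import Mathlib
import Groth.Agent.UOpenLib.Chevalley
import Groth.Agent.DvrDom.Points

/-!
# Equidimensional morphisms through maximal points
-/

set_option autoImplicit false

universe u

open CategoryTheory Limits AlgebraicGeometry TopologicalSpace Topology

namespace EquidimLib

open UOpenLib

variable {X Y : Scheme.{u}} (f : X ⟶ Y)

/-- A point maximal in its fibre. -/
def IsFibreMax (z : X) : Prop :=
  ∀ z' : X, f.base z' = f.base z → z ∈ closure {z'} → z' = z

theorem isFibreMax_of_max {ζ : X} (h : closure {ζ} ∈ irreducibleComponents (X : Type u)) :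
    IsFibreMax f ζ := fun _ _ hz ↦
  FibDimLib.eq_of_specializes_of_closure_mem h (specializes_iff_mem_closure.mpr hz)

theorem max_opens_iff (U : X.Opens) (z : (U : Scheme.{u})) :
    closure {z} ∈ irreducibleComponents (↥U : Type u) ↔
      closure {z.1} ∈ irreducibleComponents (X : Type u) := by
  constructor <;> intro h
  · refine FibDimLib.closure_mem_irreducibleComponents_of_max fun w hw ↦ ?_
    exact congrArg Subtype.val (FibDimLib.eq_of_specializes_of_closure_mem (A := ↥(U : Scheme.{u}))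
      (z := ⟨w, hw.mem_open U.isOpen z.2⟩) h (IsInducing.subtypeVal.specializes_iff.mp hw))
  · refine FibDimLib.closure_mem_irreducibleComponents_of_max (A := ↥(U : Scheme.{u})) fun w hw ↦ Subtype.ext ?_
    exact FibDimLib.eq_of_specializes_of_closure_mem h (hw.map continuous_subtype_val)

theorem isFibreMax_opens_iff (U : X.Opens) (z : (U : Scheme.{u})) :
    IsFibreMax (U.ι ≫ f) z ↔ IsFibreMax f z.1 := by
  constructor <;> intro h
  · intro w hw hsp
    have hsp' : w ⤳ z.1 := specializes_iff_mem_closure.mpr hsp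
    exact congrArg Subtype.val (h ⟨w, hsp'.mem_open U.isOpen z.2⟩ hw
      (IsInducing.subtypeVal.specializes_iff.mp hsp' :
        (⟨w, hsp'.mem_open U.isOpen z.2⟩ : (U : Scheme.{u})) ⤳ z).mem_closure)
  · intro w hw hsp
    exact Subtype.ext (h w.1 hw ((specializes_iff_mem_closure.mpr hsp).map continuous_subtype_val).mem_closure)

variable [LocallyOfFiniteType f]

/-- Closures in fibres have the same dimension in an open subscheme. -/
theorem fibreClosureDim_opens (U : X.Opens) (z : (U : Scheme.{u})) :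
    fibreClosureDim (U.ι ≫ f) z = fibreClosureDim f z.1 := by
  refine le_antisymm ?_ ?_
  · rw [fibreClosureDim_eq_inter, fibreClosureDim_eq_inter]
    let r : ↥(closure ({z} : Set (U : Scheme.{u})) ∩ (U.ι ≫ f).base ⁻¹' {(U.ι ≫ f).base z}) →
        ↥(closure ({z.1} : Set X) ∩ f.base ⁻¹' {f.base z.1}) :=
      fun a ↦ ⟨a.1.1, ((specializes_iff_mem_closure.mpr a.2.1).map continuous_subtype_val).mem_closure, a.2.2⟩
    have hr : IsInducing r := by
      refine IsInducing.of_comp ((continuous_subtype_val.comp continuous_subtype_val).subtype_mk _)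
        continuous_subtype_val ?_
      show IsInducing ((Subtype.val : ↥(U : Set X) → X) ∘ Subtype.val)
      exact IsInducing.subtypeVal.comp IsInducing.subtypeVal
    exact hr.topologicalKrullDim_le
  · obtain ⟨n, hn⟩ := exists_fibreClosureDim_eq_nat f z.1
    obtain ⟨c, hc, hcs, hcU⟩ := exists_prime_chain f (U := U) z.2 hn.ge
    rw [hn, fibreClosureDim_eq_inter]
    refine le_topologicalKrullDim_of_chain (fun i ↦ ⟨⟨c i, (hcU i).1⟩,
      (IsInducing.subtypeVal.specializes_iff.mp (hcU i).2.2 :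
        z ⤳ (⟨c i, (hcU i).1⟩ : (U : Scheme.{u}))).mem_closure, (hcU i).2.1⟩)
      (fun i j e ↦ hc (congrArg (fun a ↦ a.1.1) e)) fun i j hij ↦ ?_
    exact IsInducing.subtypeVal.specializes_iff.mp (IsInducing.subtypeVal.specializes_iff.mp (hcs i j hij))

/-- The data of equidimensionality, at the points of an open subset. -/
structure EquidimData (x : X) (e : ℕ) (U : X.Opens) : Prop where
  mem : x ∈ U
  max : ∀ ζ ∈ U, closure {ζ} ∈ irreducibleComponents (X : Type u) →
    closure {f.base ζ} ∈ irreducibleComponents (Y : Type u) ∧ f.base ζ ⤳ f.base x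
  dim : ∀ z ∈ U, IsFibreMax f z → fibreClosureDim f z = e

theorem isEquidimAt_iff (x : X) :
    EGA43.IsEquidimAt f x ↔ ∃ e U, EquidimData f x e U := by
  constructor
  · rintro ⟨e, U, hxU, hdom, hfib⟩
    refine ⟨e, U, hxU, fun ζ hζU hζ ↦ ?_, fun z hzU hz ↦ ?_⟩
    · obtain ⟨W, hW, hxW, hWeq⟩ := hdom _ ((max_opens_iff U ⟨ζ, hζU⟩).mpr hζ)
      rw [closure_image_closure (U.ι ≫ f).continuous, Set.image_singleton] at hWeq
      change closure {f.base ζ} = W at hWeq
      exact ⟨hWeq ▸ hW, specializes_iff_mem_closure.mpr (hWeq ▸ hxW)⟩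
    · rw [← fibreClosureDim_opens f U ⟨z, hzU⟩]
      exact hfib ⟨z, hzU⟩ _ (closure_asFiber_mem (U.ι ≫ f) ((isFibreMax_opens_iff f U ⟨z, hzU⟩).mpr hz))
  · rintro ⟨e, U, hxU, hmax, hdim⟩
    refine ⟨e, U, hxU, fun Z hZ ↦ ?_, fun x' Z hZ ↦ ?_⟩
    · have : QuasiSober (↥U : Type u) := inferInstanceAs (QuasiSober ↥(U : Scheme.{u}))
      obtain ⟨ζ, hζ⟩ := QuasiSober.sober (α := (↥U : Type u)) hZ.1 (isClosed_of_mem_irreducibleComponents _ hZ)
      obtain rfl : Z = closure {ζ} := hζ.def.symm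
      obtain ⟨h1, h2⟩ := hmax ζ.1 ζ.2 ((max_opens_iff U ζ).mp hZ)
      refine ⟨_, h1, h2.mem_closure, ?_⟩
      exact (closure_image_closure (U.ι ≫ f).continuous).trans (congrArg closure (Set.image_singleton ..))
    · obtain ⟨w, hw⟩ := QuasiSober.sober (α := (U.ι ≫ f).fiber ((U.ι ≫ f).base x')) hZ.1
        (isClosed_of_mem_irreducibleComponents _ hZ)
      obtain rfl : Z = closure {w} := hw.def.symm
      rw [← fibreClosureDim_fiberι, fibreClosureDim_opens]
      exact hdim _ (Subtype.prop _) ((isFibreMax_opens_iff f U _).mp (max_of_closure_mem _ hZ))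

/-- The dimension of the fibres on the open subset. -/
theorem EquidimData.fibreDimAt_eq {x : X} {e : ℕ} {U : X.Opens} (h : EquidimData f x e U) {z : X}
    (hz : z ∈ U) : FlatMor.fibreDimAt f z = e := by
  obtain ⟨z₀, hg, hsp, hmax, hd⟩ := exists_max_fibreDimAt f z
  exact hd.symm.trans (h.dim z₀ (hsp.mem_open U.isOpen hz) hmax)

/-- Near a point only the components through it matter. -/
theorem exists_open_max_through [IsLocallyNoetherian X] (x : X) (U₀ : X.Opens) (hx : x ∈ U₀) :
    ∃ U : X.Opens, x ∈ U ∧ U ≤ U₀ ∧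
      ∀ ζ ∈ U, closure {ζ} ∈ irreducibleComponents (X : Type u) → ζ ⤳ x := by
  obtain ⟨W, hW, hxW, hWU⟩ := exists_isAffineOpen_mem_and_subset hx
  have : CompactSpace (W : Scheme.{u}) := isCompact_iff_compactSpace.mp hW.isCompact
  have : IsNoetherian (W : Scheme.{u}) := {}
  let M : Set X := {ζ | ζ ∈ W ∧ closure {ζ} ∈ irreducibleComponents (X : Type u)}
  have hM : M.Finite := by
    refine ((NoetherianSpace.finite_irreducibleComponents (α := ↥(W : Scheme.{u}))).image
      fun Z ↦ closure (Subtype.val '' Z)).of_injOn (f := fun ζ ↦ closure {ζ}) ?_ ?_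
    · rintro ζ ⟨hζW, hζ⟩
      refine ⟨closure {(⟨ζ, hζW⟩ : (W : Scheme.{u}))}, (max_opens_iff W ⟨ζ, hζW⟩).mpr hζ, ?_⟩
      show closure (Subtype.val '' closure {(⟨ζ, hζW⟩ : (W : Scheme.{u}))}) = closure {ζ}
      rw [closure_image_closure continuous_subtype_val, Set.image_singleton]
    · intro a _ b _ hab
      exact (isGenericPoint_closure (x := a)).eq (by
        show closure {b} = closure {a}
        exact hab.symm)
  let B : Set X := ⋃ ζ ∈ {ζ ∈ M | ¬ ζ ⤳ x}, closure {ζ}
  have hB : IsClosed B := (hM.subset fun _ h ↦ h.1).isClosed_biUnion fun _ _ ↦ isClosed_closure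
  refine ⟨⟨(W : Set X) \ B, W.isOpen.sdiff hB⟩, ⟨hxW, ?_⟩, fun z hz ↦ hWU hz.1, fun ζ hζ hmax ↦ ?_⟩
  · simp only [B, Set.mem_iUnion, not_exists]
    exact fun z hz hx ↦ hz.2 (specializes_iff_mem_closure.mpr hx)
  · by_contra h
    exact hζ.2 (Set.mem_biUnion (x := ζ) ⟨⟨hζ.1, hmax⟩, h⟩ (subset_closure rfl))

/-- The criterion: fibres of dimension at most `e`, maximal points over maximal points with fibres
of dimension at least `e`. -/
theorem isEquidimAt_of_bounds [IsLocallyNoetherian X] (x : X) (e : ℕ) (U₀ : X.Opens) (hx : x ∈ U₀)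
    (hle : ∀ z ∈ U₀, fibreClosureDim f z ≤ e)
    (hmax : ∀ ζ ∈ U₀, closure {ζ} ∈ irreducibleComponents (X : Type u) →
      closure {f.base ζ} ∈ irreducibleComponents (Y : Type u) ∧ (e : WithBot ℕ∞) ≤ fibreClosureDim f ζ) :
    EGA43.IsEquidimAt f x := by
  obtain ⟨U, hxU, hU₀, hUx⟩ := exists_open_max_through x U₀ hx
  refine (isEquidimAt_iff f x).mpr ⟨e, U, hxU,
    fun ζ hζU hζ ↦ ⟨(hmax ζ (hU₀ hζU) hζ).1, (hUx ζ hζU hζ).map f.continuous⟩, fun z hzU hz ↦ ?_⟩
  refine le_antisymm (hle z (hU₀ hzU)) ?_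
  obtain ⟨ζ, hζ, hζz⟩ := DvrDomLib.exists_generic_specializes z
  rw [← fibreDimAt_eq_of_max f hz]
  exact ((hmax ζ (hU₀ (hζz.mem_open U.isOpen hzU)) hζ).2).trans (fibreClosureDim_le_fibreDimAt f hζz)

/-- A neighbourhood on which closures in fibres have dimension at most the dimension at the point. -/
theorem exists_nhd_fibreClosureDim_le (x : X) {e : ℕ} (hd : FlatMor.fibreDimAt f x = e) :
    ∃ U : X.Opens, x ∈ U ∧ ∀ z ∈ U, fibreClosureDim f z ≤ e := by
  obtain ⟨_, ⟨V, hV, rfl⟩, hxV, -⟩ :=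
    Y.isBasis_affineOpens.exists_subset_of_mem_open (Set.mem_univ (f.base x)) isOpen_univ
  obtain ⟨U, hU, hxU, eUV, φ, hφ, -, hqf⟩ := FibDimLib.exists_qf_affine_nhd f x hV hxV e hd
  exact ⟨U, hxU, fun z hz ↦ fibreClosureDim_le f hV hU eUV φ hφ hqf hz⟩

end EquidimLib
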