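import Mathlib
import Groth.Agent.EquidimLib.Points
import Groth.Agent.DimIneqLib.Scheme
import Groth.Agent.DimIneqLib.Fibre
import Groth.Agent.J2Lib.Criterion
import Groth.Agent.UOpenLib.HeightLift
import Groth.Agent.FibDimLib.Formula
import Groth.Agent.DevissLib.ClosedImm

/-!
# Dimensions between a point and one of its generizations
-/

set_option autoImplicit false

universe u

open CategoryTheory Limits AlgebraicGeometry TopologicalSpace Topology

namespace EquidimLib

open UOpenLib DimIneqLib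

variable {X Y : Scheme.{u}}

/-- The dimension of the set of points between a generization and a point. -/
noncomputable def dimBetween (ξ x : X) : WithBot ℕ∞ :=
  topologicalKrullDim ↥{v : X | ξ ⤳ v ∧ v ⤳ x}

/-- The dimension of a ring seen in a scheme. -/
theorem dim_eq_of_range {R : Type u} [CommRing R] {i : PrimeSpectrum R → X} (hi : IsInducing i)
    {S : Set X} (hS : Set.range i = S) : ringKrullDim R = topologicalKrullDim ↥S := by
  subst hS
  rw [← PrimeSpectrum.topologicalKrullDim_eq_ringKrullDim]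
  let e : PrimeSpectrum R ≃ₜ Set.range i := hi.isEmbedding.toHomeomorph
  exact IsHomeomorph.topologicalKrullDim_eq e e.isHomeomorph

/-- The points specializing to `x`, as primes of the local ring. -/
noncomputable abbrev stalkPt (x : X) : PrimeSpectrum (X.presheaf.stalk x) → X :=
  fun p ↦ (X.fromSpecStalk x).base p

theorem isInducing_stalkPt (x : X) : IsInducing (stalkPt x) := (X.fromSpecStalk x).isEmbedding.isInducing

theorem stalkPt_injective (x : X) : Function.Injective (stalkPt x) := (X.fromSpecStalk x).isEmbedding.injective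

theorem range_stalkPt (x : X) : Set.range (stalkPt x) = {v | v ⤳ x} := Scheme.range_fromSpecStalk (x := x)

theorem stalkPt_specializes (x : X) (p : PrimeSpectrum (X.presheaf.stalk x)) : stalkPt x p ⤳ x :=
  (range_stalkPt x).subset ⟨p, rfl⟩

theorem exists_stalkPt {v x : X} (h : v ⤳ x) : ∃ p, stalkPt x p = v := (range_stalkPt x).superset h

theorem le_of_stalkPt {x : X} {p q : PrimeSpectrum (X.presheaf.stalk x)} (h : stalkPt x p ⤳ stalkPt x q) :
    p ≤ q := (PrimeSpectrum.le_iff_specializes p q).mpr ((isInducing_stalkPt x).specializes_iff.mp h)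

theorem specializes_stalkPt {x : X} {p q : PrimeSpectrum (X.presheaf.stalk x)} (h : p ≤ q) :
    stalkPt x p ⤳ stalkPt x q :=
  ((PrimeSpectrum.le_iff_specializes p q).mp h).map (isInducing_stalkPt x).continuous

theorem stalk_dim_eq (x : X) : ringKrullDim (X.presheaf.stalk x) = topologicalKrullDim ↥{v : X | v ⤳ x} :=
  dim_eq_of_range (isInducing_stalkPt x) (range_stalkPt x)

theorem comap_mk_range {R : Type u} [CommRing R] (P : Ideal R) :
    Set.range (PrimeSpectrum.comap (Ideal.Quotient.mk P)) = {q | P ≤ q.asIdeal} := by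
  rw [range_comap_of_surjective _ _ Ideal.Quotient.mk_surjective, Ideal.mk_ker]
  rfl

/-- The dimension of a quotient of a local ring. -/
theorem stalk_quotient_dim_eq (x : X) (P : PrimeSpectrum (X.presheaf.stalk x)) :
    ringKrullDim (X.presheaf.stalk x ⧸ P.asIdeal) = dimBetween (stalkPt x P) x := by
  refine dim_eq_of_range (i := stalkPt x ∘ PrimeSpectrum.comap (Ideal.Quotient.mk P.asIdeal))
    ((isInducing_stalkPt x).comp
      (PrimeSpectrum.isClosedEmbedding_comap_of_surjective _ _ Ideal.Quotient.mk_surjective).isInducing) ?_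
  rw [Set.range_comp, comap_mk_range]
  ext v
  constructor
  · rintro ⟨q, hq, rfl⟩
    exact ⟨specializes_stalkPt hq, stalkPt_specializes x q⟩
  · rintro ⟨h1, h2⟩
    obtain ⟨q, rfl⟩ := exists_stalkPt h2
    exact ⟨q, le_of_stalkPt h1, rfl⟩

/-- Heights seen in a scheme. -/
theorem height_eq_of_inducing {R : Type u} [CommRing R] {i : PrimeSpectrum R → X} (hi : IsInducing i)
    (q : PrimeSpectrum R) :
    (q.asIdeal.height : WithBot ℕ∞) = topologicalKrullDim ↥{v : X | v ∈ Set.range i ∧ v ⤳ i q} := by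
  rw [← IsLocalization.AtPrime.ringKrullDim_eq_height q.asIdeal (Localization.AtPrime q.asIdeal)]
  refine dim_eq_of_range (i := i ∘ PrimeSpectrum.comap (algebraMap R (Localization.AtPrime q.asIdeal)))
    (hi.comp (PrimeSpectrum.localization_comap_isInducing _ q.asIdeal.primeCompl)) ?_
  rw [Set.range_comp, PrimeSpectrum.localization_comap_range _ q.asIdeal.primeCompl]
  ext v
  constructor
  · rintro ⟨p, hp, rfl⟩
    refine ⟨⟨p, rfl⟩, ((PrimeSpectrum.le_iff_specializes p q).mp fun a ha ↦ ?_).map hi.continuous⟩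
    by_contra haq
    exact Set.disjoint_left.mp hp (show a ∈ (q.asIdeal.primeCompl : Set R) from haq) ha
  · rintro ⟨⟨p, rfl⟩, hv⟩
    have hle : p.asIdeal ≤ q.asIdeal := (PrimeSpectrum.le_iff_specializes p q).mpr (hi.specializes_iff.mp hv)
    exact ⟨p, Set.disjoint_left.mpr fun a ha hap ↦ ha (hle hap), rfl⟩

/-- Chains through a point add up, below the whole local ring. -/
theorem stalk_dim_add_le {z x : X} (hzx : z ⤳ x) :
    ringKrullDim (X.presheaf.stalk z) + dimBetween z x ≤ ringKrullDim (X.presheaf.stalk x) := by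
  obtain ⟨q, hq⟩ := exists_stalkPt hzx
  have h1 := J2Lib.ringKrullDim_quotient_add_height_le q.asIdeal
  rw [stalk_quotient_dim_eq x q, height_eq_of_inducing (isInducing_stalkPt x) q, hq,
    add_comm] at h1
  refine le_trans (add_le_add (le_of_eq ?_) le_rfl) h1
  rw [stalk_dim_eq]
  rw [show {v : X | v ⤳ z} = {v | v ∈ Set.range (stalkPt x) ∧ v ⤳ z} from Set.ext fun v ↦
    ⟨fun hv ↦ ⟨exists_stalkPt ((hv : v ⤳ z).trans hzx), hv⟩, fun h ↦ h.2⟩]

/-- Chains through a point add up. -/
theorem dimBetween_add_le {ξ z x : X} (hξz : ξ ⤳ z) (hzx : z ⤳ x) :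
    dimBetween ξ z + dimBetween z x ≤ dimBetween ξ x := by
  let j := stalkPt x
  obtain ⟨P, hP⟩ := exists_stalkPt (hξz.trans hzx)
  obtain ⟨q, hq⟩ := exists_stalkPt hzx
  let mk := Ideal.Quotient.mk P.asIdeal
  have hPq : P.asIdeal ≤ q.asIdeal :=
    le_of_stalkPt (hP.symm ▸ hq.symm ▸ hξz)
  obtain ⟨q', hq'⟩ : q ∈ Set.range (PrimeSpectrum.comap mk) := by rw [comap_mk_range]; exact hPq
  let i : PrimeSpectrum (X.presheaf.stalk x ⧸ P.asIdeal) → X := j ∘ PrimeSpectrum.comap mk
  have hi : IsInducing i := (isInducing_stalkPt x).comp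
    (PrimeSpectrum.isClosedEmbedding_comap_of_surjective _ _ Ideal.Quotient.mk_surjective).isInducing
  have hiz : i q' = z := by show j (PrimeSpectrum.comap mk q') = z; rw [hq']; exact hq
  have hrange : Set.range i = {v | ξ ⤳ v ∧ v ⤳ x} := by
    rw [Set.range_comp, comap_mk_range]
    ext v
    constructor
    · rintro ⟨p, hp, rfl⟩
      exact ⟨hP ▸ specializes_stalkPt hp, stalkPt_specializes x p⟩
    · rintro ⟨h1, h2⟩
      obtain ⟨p, rfl⟩ := exists_stalkPt h2
      exact ⟨p, le_of_stalkPt (hP.symm ▸ h1), rfl⟩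
  have h1 := J2Lib.ringKrullDim_quotient_add_height_le q'.asIdeal
  rw [dim_eq_of_range hi hrange, height_eq_of_inducing hi q', hiz, hrange,
    dim_eq_of_range (hi.comp
      (PrimeSpectrum.isClosedEmbedding_comap_of_surjective _ _ Ideal.Quotient.mk_surjective).isInducing)
      (S := {v | z ⤳ v ∧ v ⤳ x}) ?_, add_comm] at h1
  · refine le_trans (add_le_add (le_of_eq ?_) le_rfl) h1
    show topologicalKrullDim ↥{v : X | ξ ⤳ v ∧ v ⤳ z} = _
    rw [show {v : X | ξ ⤳ v ∧ v ⤳ z} = {v | v ∈ {v | ξ ⤳ v ∧ v ⤳ x} ∧ v ⤳ z} from Set.ext fun v ↦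
      ⟨fun h ↦ ⟨⟨h.1, h.2.trans hzx⟩, h.2⟩, fun h ↦ ⟨h.1.1, h.2⟩⟩]
  · rw [Set.range_comp, comap_mk_range]
    ext v
    constructor
    · rintro ⟨p, hp, rfl⟩
      have h : i p ∈ Set.range i := ⟨p, rfl⟩
      rw [hrange] at h
      exact ⟨hiz ▸ ((PrimeSpectrum.le_iff_specializes q' p).mp hp).map hi.continuous, h.2⟩
    · rintro ⟨h1, h2⟩
      obtain ⟨p, rfl⟩ : v ∈ Set.range i := hrange ▸ ⟨hξz.trans h1, h2⟩
      exact ⟨p, (PrimeSpectrum.le_iff_specializes q' p).mpr (hi.specializes_iff.mp (hiz.symm ▸ h1)), rfl⟩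

theorem dimBetween_self (x : X) : dimBetween x x = 0 := by
  have : Subsingleton ↥{v : X | x ⤳ v ∧ v ⤳ x} :=
    ⟨fun a b ↦ Subtype.ext (((a.2.2.trans b.2.1).antisymm (b.2.2.trans a.2.1)).eq)⟩
  have : Nonempty ↥{v : X | x ⤳ v ∧ v ⤳ x} := ⟨⟨x, specializes_rfl, specializes_rfl⟩⟩
  refine le_antisymm ?_ ?_
  · have : Subsingleton (IrreducibleCloseds ↥{v : X | x ⤳ v ∧ v ⤳ x}) :=
      ⟨fun a b ↦ IrreducibleCloseds.ext ((Subsingleton.eq_univ_of_nonempty a.isIrreducible.nonempty).trans
        (Subsingleton.eq_univ_of_nonempty b.isIrreducible.nonempty).symm)⟩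
    exact Order.krullDim_nonpos_of_subsingleton
  · exact le_topologicalKrullDim_of_chain (n := 0) (fun _ ↦ (Classical.arbitrary _))
      (fun i j _ ↦ Fin.ext (by omega)) fun _ _ _ ↦ specializes_rfl

theorem one_le_dimBetween {ξ x : X} (h : ξ ⤳ x) (hne : ξ ≠ x) : 1 ≤ dimBetween ξ x := by
  let c : Fin (1 + 1) → ↥{v : X | ξ ⤳ v ∧ v ⤳ x} :=
    ![⟨ξ, specializes_rfl, h⟩, ⟨x, h, specializes_rfl⟩]
  refine le_topologicalKrullDim_of_chain (n := 1) c ?_ ?_
  · intro i j e
    fin_cases i <;> fin_cases j <;> first | rfl | (exfalso; exact hne (congrArg Subtype.val e)) |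
      (exfalso; exact hne (congrArg Subtype.val e).symm)
  · intro i j hij
    fin_cases i <;> fin_cases j <;> first | exact specializes_rfl |
      exact IsInducing.subtypeVal.specializes_iff.mp h | (exfalso; simp at hij)

/-- The dimension between two points is at most that of the local ring. -/
theorem dimBetween_le_stalk (ξ x : X) : dimBetween ξ x ≤ ringKrullDim (X.presheaf.stalk x) := by
  rw [stalk_dim_eq]
  exact (IsEmbedding.inclusion (fun _ h ↦ h.2)).isInducing.topologicalKrullDim_le

theorem exists_stalk_dim_eq_nat [IsLocallyNoetherian X] (x : X) :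
    ∃ n : ℕ, ringKrullDim (X.presheaf.stalk x) = n := by
  rw [← IsLocalRing.maximalIdeal_height_eq_ringKrullDim]
  obtain ⟨n, hn⟩ := ENat.ne_top_iff_exists.1
    (Ideal.height_ne_top (I := IsLocalRing.maximalIdeal (X.presheaf.stalk x)) Ideal.IsPrime.ne_top')
  exact ⟨n, by rw [← hn]; rfl⟩

theorem exists_dimBetween_eq_nat [IsLocallyNoetherian X] {ξ x : X} (h : ξ ⤳ x) :
    ∃ n : ℕ, dimBetween ξ x = n := by
  obtain ⟨N, hN⟩ := exists_stalk_dim_eq_nat x
  have h1 : dimBetween ξ x ≤ N := hN ▸ dimBetween_le_stalk ξ x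
  have h2 : (0 : WithBot ℕ∞) ≤ dimBetween ξ x := by
    rw [← dimBetween_self x]
    have hsub : {v : X | x ⤳ v ∧ v ⤳ x} ⊆ {v | ξ ⤳ v ∧ v ⤳ x} := fun v hv ↦ ⟨h.trans hv.1, hv.2⟩
    exact (IsEmbedding.inclusion hsub).isInducing.topologicalKrullDim_le
  induction hd : dimBetween ξ x with
  | bot => rw [hd] at h2; exact absurd h2 (by simp)
  | coe a =>
    induction a using ENat.recTopCoe with
    | top =>
      rw [hd] at h1
      exact absurd (WithBot.coe_le_coe.mp h1) (by simp)
    | coe n => exact ⟨n, rfl⟩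

/-- The local ring has the dimension of one of the components through the point. -/
theorem exists_max_dimBetween [IsLocallyNoetherian X] (x : X) :
    ∃ ξ : X, closure {ξ} ∈ irreducibleComponents (X : Type u) ∧ ξ ⤳ x ∧
      dimBetween ξ x = ringKrullDim (X.presheaf.stalk x) := by
  obtain ⟨P, hPmin, hPle, hP⟩ := FibDimLib.exists_minimal_height_eq
    (S := X.presheaf.stalk x) (IsLocalRing.closedPoint _)
  refine ⟨stalkPt x P, FibDimLib.closure_mem_irreducibleComponents_of_max fun w hw ↦ ?_,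
    stalkPt_specializes x P, le_antisymm (dimBetween_le_stalk _ _) ?_⟩
  · obtain ⟨p, rfl⟩ := exists_stalkPt (hw.trans (stalkPt_specializes x P))
    have hle : p ≤ P := le_of_stalkPt hw
    rw [le_antisymm hle (hPmin hle)]
  · rw [← stalk_quotient_dim_eq, ← IsLocalRing.maximalIdeal_height_eq_ringKrullDim]
    have hpr : ((IsLocalRing.maximalIdeal (X.presheaf.stalk x)).map (Ideal.Quotient.mk P.asIdeal)).IsPrime :=
      Ideal.map_isPrime_of_surjective Ideal.Quotient.mk_surjective
        (by rw [Ideal.mk_ker]; exact hPle)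
    exact (WithBot.coe_le_coe.mpr (hP hpr)).trans (Ideal.height_le_ringKrullDim_of_ne_top hpr.ne_top)

/-- The lower bound from lifting generizations at a maximal point of a fibre. -/
theorem dim_base_le_stalk [IsLocallyNoetherian X] [IsLocallyNoetherian Y] (f : X ⟶ Y) (z : X)
    (hz : IsFibreMax f z)
    (hlift : ∀ y' : Y, y' ⤳ f.base z → ∃ z' : X, z' ⤳ z ∧ f.base z' = y') :
    ringKrullDim (Y.presheaf.stalk (f.base z)) ≤ ringKrullDim (X.presheaf.stalk z) := by
  let j := X.fromSpecStalk z
  let k := Y.fromSpecStalk (f.base z)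
  let φ := (f.stalkMap z).hom
  have hjk : ∀ q, f.base (j.base q) = k.base (PrimeSpectrum.comap φ q) := fun q ↦ by
    rw [← Scheme.Hom.comp_apply, ← Scheme.SpecMap_stalkMap_fromSpecStalk f, Scheme.Hom.comp_apply]
    rfl
  let m : PrimeSpectrum (X.presheaf.stalk z) := IsLocalRing.closedPoint _
  have hm : PrimeSpectrum.comap φ m = IsLocalRing.closedPoint _ :=
    PrimeSpectrum.ext (((IsLocalRing.local_hom_TFAE φ).out 0 4 rfl rfl).mp inferInstance)
  obtain ⟨n, hn⟩ := exists_stalk_dim_eq_nat (f.base z)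
  have hn' : (n : ℕ∞) ≤ (IsLocalRing.closedPoint (Y.presheaf.stalk (f.base z))).asIdeal.height := by
    have := IsLocalRing.maximalIdeal_height_eq_ringKrullDim (R := Y.presheaf.stalk (f.base z))
    rw [hn] at this
    exact (WithBot.coe_inj.mp this).ge
  rw [PrimeSpectrum.height_eq_orderHeight] at hn'
  obtain ⟨c, hc, hcn⟩ := Order.exists_series_of_le_height _ hn'
  obtain ⟨d, hd, -, -⟩ := exists_series_of_lift φ m (fun q' _ hq' ↦ by
    apply j.isEmbedding.injective
    refine (Scheme.fromSpecStalk_closedPoint (X := X) (x := z)).symm ▸ ?_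
    refine hz _ ?_ (Specializes.mem_closure ?_)
    · rw [hjk, hq', hm]
      exact Scheme.fromSpecStalk_closedPoint
    · have h : j.base q' ∈ Set.range j.base := ⟨q', rfl⟩
      rwa [Scheme.range_fromSpecStalk] at h) n ⊥ c hcn (by rw [hc, hm]) bot_le fun p' _ _ ↦ by
    have hp : k.base p' ⤳ f.base z := by
      have h : k.base p' ∈ Set.range k.base := ⟨p', rfl⟩
      rwa [Scheme.range_fromSpecStalk] at h
    obtain ⟨z', hz', hfz'⟩ := hlift _ hp
    obtain ⟨q', rfl⟩ : z' ∈ Set.range j.base := by rw [Scheme.range_fromSpecStalk]; exact hz'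
    exact ⟨q', IsLocalRing.le_maximalIdeal q'.isPrime.ne_top,
      k.isEmbedding.injective ((hjk q').symm.trans hfz')⟩
  rw [hn, ← hd]
  exact Order.LTSeries.length_le_krullDim d

/-- Dimensions in the fibres. -/
theorem fibreClosureDim_eq_add (f : X ⟶ Y) [LocallyOfFiniteType f] {z x : X} (hzx : z ⤳ x)
    (hf : f.base z = f.base x) : fibreClosureDim f z = fibreClosureDim f x + dimBetween z x := by
  let ι := f.fiberι (f.base x)
  let w : f.fiber (f.base x) := (f.fiberHomeo (f.base x)).symm ⟨z, hf⟩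
  have hw : ι.base w = z := f.fiberι_fiberHomeo_symm _ _
  have : LocallyOfFiniteType (f.fiberToSpecResidueField (f.base x)) := lft_fiberToSpec f _
  let J := Scheme.IdealSheafData.vanishingIdeal (⟨closure {w}, isClosed_closure⟩ : Closeds (f.fiber (f.base x)))
  let j := J.subschemeι
  have hrange : Set.range j.base = closure {w} := by
    rw [J.range_subschemeι, Scheme.IdealSheafData.coe_support_vanishingIdeal]
    rfl
  have hwx : w ⤳ f.asFiber x := ι.isEmbedding.isInducing.specializes_iff.mp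
    (by rw [hw, f.fiberι_asFiber]; exact hzx)
  obtain ⟨w₀, hw₀⟩ : w ∈ Set.range j.base := hrange ▸ subset_closure rfl
  obtain ⟨x₀, hx₀⟩ : f.asFiber x ∈ Set.range j.base := hrange ▸ hwx.mem_closure
  have hgen : ∀ v, w₀ ⤳ v := fun v ↦ j.isEmbedding.isInducing.specializes_iff.mp
    (by rw [hw₀]; exact specializes_iff_mem_closure.mpr (hrange ▸ ⟨v, rfl⟩))
  let q := j ≫ f.fiberToSpecResidueField (f.base x)
  have hloc := FibDimLib.localDim_eq_closure_add_stalk (k := Y.residueField (f.base x)) q x₀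
  obtain ⟨g, hg, -, hgd⟩ := FibDimLib.exists_generic_localDim (k := Y.residueField (f.base x)) q x₀
  obtain rfl : w₀ = g := FibDimLib.eq_of_specializes_of_closure_mem hg (hgen g)
  rw [hgd] at hloc
  have hcl : ∀ v, topologicalKrullDim (closure ({v} : Set ↥J.subscheme)) =
      fibreClosureDim f (ι.base (j.base v)) := fun v ↦ by
    rw [fibreClosureDim_fiberι]
    have himg : j.base '' closure {v} = closure {j.base v} := by
      rw [← j.isClosedEmbedding.closure_image_eq, Set.image_singleton]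
    let e := (j.isEmbedding.homeomorphImage (closure {v})).trans (Homeomorph.setCongr himg)
    exact IsHomeomorph.topologicalKrullDim_eq e e.isHomeomorph
  rw [hcl, hcl, hw₀, hx₀, hw, f.fiberι_asFiber] at hloc
  rw [hloc]
  congr 1
  refine dim_eq_of_range (i := ι.base ∘ j.base ∘ (J.subscheme.fromSpecStalk x₀).base)
    (ι.isEmbedding.isInducing.comp (j.isEmbedding.isInducing.comp
      (J.subscheme.fromSpecStalk x₀).isEmbedding.isInducing)) ?_
  rw [Set.range_comp, Set.range_comp]
  erw [Scheme.range_fromSpecStalk]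
  ext v
  constructor
  · rintro ⟨_, ⟨a, ha, rfl⟩, rfl⟩
    refine ⟨?_, ?_⟩
    · have := ((hgen a).map j.continuous).map ι.continuous
      rwa [hw₀, hw] at this
    · have := ((Set.mem_setOf.mp ha).map j.continuous).map ι.continuous
      rwa [hx₀, f.fiberι_asFiber] at this
  · rintro ⟨h1, h2⟩
    have hv : f.base v = f.base x :=
      ((h2.map f.continuous).antisymm (hf ▸ h1.map f.continuous)).eq
    obtain ⟨b, rfl⟩ : v ∈ Set.range ι.base := by rw [f.range_fiberι]; exact hv
    have hwb : w ⤳ b := ι.isEmbedding.isInducing.specializes_iff.mp (hw.symm ▸ h1)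
    obtain ⟨a, rfl⟩ : b ∈ Set.range j.base := hrange ▸ hwb.mem_closure
    refine ⟨_, ⟨a, ?_, rfl⟩, rfl⟩
    refine j.isEmbedding.isInducing.specializes_iff.mp (hx₀.symm ▸ ?_)
    exact ι.isEmbedding.isInducing.specializes_iff.mp (by rw [f.fiberι_asFiber]; exact h2)

/-- The fibre dimension at a point through the local ring of the fibre. -/
theorem fibreDimAt_eq_add_stalk (f : X ⟶ Y) [LocallyOfFiniteType f] (x : X) :
    FlatMor.fibreDimAt f x =
      fibreClosureDim f x + ringKrullDim ((f.fiber (f.base x)).presheaf.stalk (f.asFiber x)) := by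
  have : LocallyOfFiniteType (f.fiberToSpecResidueField (f.base x)) := lft_fiberToSpec f _
  exact FibDimLib.localDim_eq_closure_add_stalk (k := Y.residueField (f.base x))
    (f.fiberToSpecResidueField (f.base x)) (f.asFiber x)

end EquidimLib
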