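import Mathlib
import Groth.Agent.EquidimLib.DimBetween
import Groth.Prelude.Def_EGA4b

/-!
# The dimension inequality on components
-/

set_option autoImplicit false

universe u

open CategoryTheory Limits AlgebraicGeometry TopologicalSpace Topology

namespace EquidimLib

open UOpenLib DimIneqLib

variable {X Y : Scheme.{u}}

theorem height_map_eq_dimBetween {V : X.Opens} (hV : IsAffineOpen V) {ξ x : X} (hξV : ξ ∈ V) (hxV : x ∈ V)
    (h : ξ ⤳ x)
    [((hV.primeIdealOf ⟨x, hxV⟩).asIdeal.map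
      (Ideal.Quotient.mk (hV.primeIdealOf ⟨ξ, hξV⟩).asIdeal)).IsPrime] :
    (((hV.primeIdealOf ⟨x, hxV⟩).asIdeal.map
      (Ideal.Quotient.mk (hV.primeIdealOf ⟨ξ, hξV⟩).asIdeal)).height : WithBot ℕ∞) = dimBetween ξ x := by
  let Q := hV.primeIdealOf ⟨ξ, hξV⟩
  let P := hV.primeIdealOf ⟨x, hxV⟩
  let mk := Ideal.Quotient.mk Q.asIdeal
  let i : PrimeSpectrum (Γ(X, V) ⧸ Q.asIdeal) → X := fun q ↦ hV.fromSpec.base (PrimeSpectrum.comap mk q)
  have hi : IsInducing i := hV.fromSpec.isOpenEmbedding.isInducing.comp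
    (PrimeSpectrum.isClosedEmbedding_comap_of_surjective _ _ Ideal.Quotient.mk_surjective).isInducing
  have hQP : Q.asIdeal ≤ P.asIdeal := (primeIdealOf_le_iff hV hξV hxV).mpr h
  let P' : PrimeSpectrum (Γ(X, V) ⧸ Q.asIdeal) := ⟨P.asIdeal.map mk, inferInstance⟩
  have hP' : i P' = x := by
    show hV.fromSpec.base (PrimeSpectrum.comap mk P') = x
    have : PrimeSpectrum.comap mk P' = P := PrimeSpectrum.ext (by
      show (P.asIdeal.map mk).comap mk = P.asIdeal
      rw [Ideal.comap_map_of_surjective _ Ideal.Quotient.mk_surjective, ← RingHom.ker_eq_comap_bot,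
        Ideal.mk_ker, sup_eq_left.mpr hQP])
    rw [this]
    exact hV.fromSpec_primeIdealOf ⟨x, hxV⟩
  rw [height_eq_of_inducing hi P', hP']
  show _ = topologicalKrullDim ↥{v : X | ξ ⤳ v ∧ v ⤳ x}
  rw [show {v : X | v ∈ Set.range i ∧ v ⤳ x} = {v : X | ξ ⤳ v ∧ v ⤳ x} from Set.ext fun v ↦ ⟨?_, ?_⟩]
  · rintro ⟨⟨q, rfl⟩, hv⟩
    refine ⟨?_, hv⟩
    have hq : Q.asIdeal ≤ (PrimeSpectrum.comap mk q).asIdeal := fun a ha ↦ by
      show mk a ∈ q.asIdeal
      rw [show mk a = 0 from Ideal.Quotient.eq_zero_iff_mem.mpr ha]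
      exact q.asIdeal.zero_mem
    have := ((PrimeSpectrum.le_iff_specializes Q _).mp hq).map hV.fromSpec.continuous
    rwa [show hV.fromSpec.base Q = ξ from hV.fromSpec_primeIdealOf ⟨ξ, hξV⟩] at this
  · rintro ⟨h1, h2⟩
    have hvV : v ∈ V := h2.mem_open V.isOpen hxV
    obtain ⟨q, hq⟩ : hV.primeIdealOf ⟨v, hvV⟩ ∈ Set.range (PrimeSpectrum.comap mk) := by
      rw [comap_mk_range]
      exact (primeIdealOf_le_iff hV hξV hvV).mpr h1
    exact ⟨⟨q, by show hV.fromSpec.base (PrimeSpectrum.comap mk q) = v; rw [hq]; exact hV.fromSpec_primeIdealOf ⟨v, hvV⟩⟩, h2⟩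

/-- The dimension inequality on the closure of a generization. -/
theorem dimBetween_add_fibreClosureDim_le [IsLocallyNoetherian Y] (f : X ⟶ Y) [LocallyOfFiniteType f]
    {ξ x : X} (h : ξ ⤳ x) :
    dimBetween ξ x + fibreClosureDim f x ≤ dimBetween (f.base ξ) (f.base x) + fibreClosureDim f ξ := by
  obtain ⟨U, hU, hsU, -⟩ := exists_isAffineOpen_mem_and_subset (X := Y) (x := f x) (U := ⊤) trivial
  obtain ⟨V, hV, hxV, hVU⟩ := exists_isAffineOpen_mem_and_subset (X := X) (x := x) (U := f ⁻¹ᵁ U) hsU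
  have hVU : V ≤ f ⁻¹ᵁ U := hVU
  haveI : IsNoetherianRing Γ(Y, U) := IsLocallyNoetherian.component_noetherian ⟨U, hU⟩
  letI : Algebra Γ(Y, U) Γ(X, V) := (f.appLE U V hVU).hom.toAlgebra
  haveI hft : Algebra.FiniteType Γ(Y, U) Γ(X, V) := f.finiteType_appLE hU hV hVU
  have hξV : ξ ∈ V := h.mem_open V.isOpen hxV
  let P := (hV.primeIdealOf ⟨x, hxV⟩).asIdeal
  let p := (hU.primeIdealOf ⟨f x, hVU hxV⟩).asIdeal
  let Q := (hV.primeIdealOf ⟨ξ, hξV⟩).asIdeal
  let p₀ := (hU.primeIdealOf ⟨f ξ, hVU hξV⟩).asIdeal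
  have hQP : Q ≤ P := (primeIdealOf_le_iff hV hξV hxV).mpr h
  have hover : P.comap (algebraMap Γ(Y, U) Γ(X, V)) = p :=
    congrArg PrimeSpectrum.asIdeal (IsAffineOpen.comap_primeIdealOf_appLE U hU V hV hVU hxV)
  have hover₀ : Q.comap (algebraMap Γ(Y, U) Γ(X, V)) = p₀ :=
    congrArg PrimeSpectrum.asIdeal (IsAffineOpen.comap_primeIdealOf_appLE U hU V hV hVU hξV)
  haveI : Q.LiesOver p₀ := ⟨hover₀.symm⟩
  haveI : (P.map (Ideal.Quotient.mk Q)).IsPrime :=
    Ideal.map_isPrime_of_surjective Ideal.Quotient.mk_surjective (by rw [Ideal.mk_ker]; exact hQP)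
  have hp₀p : p₀ ≤ p := by rw [← hover, ← hover₀]; exact Ideal.comap_mono hQP
  haveI : (p.map (Ideal.Quotient.mk p₀)).IsPrime :=
    Ideal.map_isPrime_of_surjective Ideal.Quotient.mk_surjective (by rw [Ideal.mk_ker]; exact hp₀p)
  let P' := P.map (Ideal.Quotient.mk Q)
  let p' := p.map (Ideal.Quotient.mk p₀)
  have hP'c : P'.comap (Ideal.Quotient.mk Q) = P := by
    rw [Ideal.comap_map_of_surjective _ Ideal.Quotient.mk_surjective, ← RingHom.ker_eq_comap_bot, Ideal.mk_ker,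
      sup_eq_left.mpr hQP]
  have hp'c : p'.comap (Ideal.Quotient.mk p₀) = p := by
    rw [Ideal.comap_map_of_surjective _ Ideal.Quotient.mk_surjective, ← RingHom.ker_eq_comap_bot, Ideal.mk_ker,
      sup_eq_left.mpr hp₀p]
  haveI : P'.LiesOver p' := ⟨Ideal.comap_injective_of_surjective _ Ideal.Quotient.mk_surjective (by
    rw [hp'c, ← hover, ← hP'c, Ideal.under, Ideal.comap_comap, Ideal.comap_comap]
    rfl)⟩
  haveI : Algebra.FiniteType Γ(Y, U) (Γ(X, V) ⧸ Q) :=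
    Algebra.FiniteType.of_surjective (Ideal.Quotient.mkₐ Γ(Y, U) Q) Ideal.Quotient.mk_surjective
  haveI : Algebra.FiniteType (Γ(Y, U) ⧸ p₀) (Γ(X, V) ⧸ Q) :=
    Algebra.FiniteType.of_restrictScalars_finiteType Γ(Y, U) _ _
  have hmain := DimIneqLib.main (R := Γ(Y, U) ⧸ p₀) P' p'
  have hx1 := ker_evaluation hV x hxV
  have hs1 := ker_evaluation hU (f x) (hVU hxV)
  have e1 : tr ((Γ(Y, U) ⧸ p₀) ⧸ p') ((Γ(X, V) ⧸ Q) ⧸ P') = trH (f.residueFieldMap x).hom := by
    refine (trH_eq P' p' (Ideal.Quotient.lift p₀ (Y.evaluation U (f x) (hVU hxV)).hom fun r hr => ?_)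
      (Ideal.Quotient.lift Q (X.evaluation V x hxV).hom fun r hr => ?_) ?_ ?_ (hs1.2.lift p₀ _) (hx1.2.lift Q _) _ ?_).symm
    · rw [← RingHom.mem_ker, hs1.1]; exact hp₀p hr
    · rw [← RingHom.mem_ker, hx1.1]; exact hQP hr
    · refine Ideal.comap_injective_of_surjective _ Ideal.Quotient.mk_surjective ?_
      rw [hp'c, RingHom.comap_ker, Ideal.Quotient.lift_comp_mk, hs1.1]
    · refine Ideal.comap_injective_of_surjective _ Ideal.Quotient.mk_surjective ?_
      rw [hP'c, RingHom.comap_ker, Ideal.Quotient.lift_comp_mk, hx1.1]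
    · refine Ideal.Quotient.ringHom_ext (RingHom.ext fun r => ?_)
      exact RingHom.congr_fun (evaluation_appLE f hVU x hxV) r
  have hξ1 := ker_evaluation hV ξ hξV
  have hfξ1 := ker_evaluation hU (f ξ) (hVU hξV)
  have e2 : tr (Γ(Y, U) ⧸ p₀) (Γ(X, V) ⧸ Q) = trH (f.residueFieldMap ξ).hom :=
    (trH_eq Q p₀ (Y.evaluation U (f ξ) (hVU hξV)).hom (X.evaluation V ξ hξV).hom hfξ1.1
      hξ1.1 hfξ1.2 hξ1.2 _ (evaluation_appLE f hVU ξ hξV)).symm
  rw [e1, e2] at hmain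
  rw [fibreClosureDim_eq_trH, fibreClosureDim_eq_trH, ← height_map_eq_dimBetween hV hξV hxV h,
    ← height_map_eq_dimBetween hU (hVU hξV) (hVU hxV) (h.map f.continuous)]
  exact_mod_cast hmain

/-- Lifting generizations inside the closure of a point. -/
theorem dim_base_le_dimBetween [IsLocallyNoetherian X] [IsLocallyNoetherian Y] (f : X ⟶ Y) {ξ z : X}
    (hξz : ξ ⤳ z) (hz : IsFibreMax f z)
    (hlift : ∀ y' : Y, y' ⤳ f.base z → ∃ z' : X, ξ ⤳ z' ∧ z' ⤳ z ∧ f.base z' = y') :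
    ringKrullDim (Y.presheaf.stalk (f.base z)) ≤ dimBetween ξ z := by
  let J := Scheme.IdealSheafData.vanishingIdeal (⟨closure {ξ}, isClosed_closure⟩ : Closeds X)
  let j := J.subschemeι
  have hrange : Set.range j.base = closure {ξ} := by
    rw [J.range_subschemeι, Scheme.IdealSheafData.coe_support_vanishingIdeal]
    rfl
  have : IsLocallyNoetherian J.subscheme := LocallyOfFiniteType.isLocallyNoetherian j
  obtain ⟨z₀, hz₀⟩ : z ∈ Set.range j.base := hrange ▸ hξz.mem_closure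
  have hsp : ∀ {a b}, j.base a ⤳ j.base b → a ⤳ b := fun h ↦ j.isEmbedding.isInducing.specializes_iff.mp h
  have h := dim_base_le_stalk (j ≫ f) z₀ (fun v hv hvz ↦ j.isEmbedding.injective (by
      rw [hz₀]
      exact hz (j.base v) (hz₀ ▸ hv)
        (hz₀ ▸ ((specializes_iff_mem_closure.mpr hvz).map j.continuous)).mem_closure))
    (fun y' hy' ↦ by
      rw [Scheme.Hom.comp_apply, hz₀] at hy'
      obtain ⟨z', h1, h2, h3⟩ := hlift y' hy'
      obtain ⟨v, rfl⟩ : z' ∈ Set.range j.base := hrange ▸ h1.mem_closure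
      exact ⟨v, hsp (hz₀.symm ▸ h2), h3⟩)
  rw [Scheme.Hom.comp_apply, hz₀] at h
  refine h.trans (le_of_eq ?_)
  refine dim_eq_of_range (i := j.base ∘ stalkPt z₀)
    (j.isEmbedding.isInducing.comp (isInducing_stalkPt z₀)) ?_
  rw [Set.range_comp, range_stalkPt]
  ext v
  constructor
  · rintro ⟨a, ha, rfl⟩
    exact ⟨specializes_iff_mem_closure.mpr (hrange ▸ ⟨a, rfl⟩), hz₀ ▸ (ha : a ⤳ z₀).map j.continuous⟩
  · rintro ⟨h1, h2⟩
    obtain ⟨a, rfl⟩ : v ∈ Set.range j.base := hrange ▸ h1.mem_closure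
    exact ⟨a, hsp (hz₀.symm ▸ h2), rfl⟩

/-- Equidimensionality of a local ring through the components. -/
theorem isEquidim_stalk_iff [IsLocallyNoetherian X] (x : X) :
    EGA4.IsEquidim (X.presheaf.stalk x) ↔
      ∀ ξ : X, closure {ξ} ∈ irreducibleComponents (X : Type u) → ξ ⤳ x →
        dimBetween ξ x = ringKrullDim (X.presheaf.stalk x) := by
  constructor
  · intro h ξ hξ hξx
    obtain ⟨P, rfl⟩ := exists_stalkPt hξx
    rw [← stalk_quotient_dim_eq]
    refine h P.asIdeal ⟨⟨P.isPrime, bot_le⟩, fun P' hP' hle ↦ ?_⟩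
    have := FibDimLib.eq_of_specializes_of_closure_mem hξ
      (z := stalkPt x ⟨P', hP'.1⟩) (specializes_stalkPt hle)
    exact (congrArg PrimeSpectrum.asIdeal (stalkPt_injective x this)).ge
  · intro h p hp
    let P : PrimeSpectrum (X.presheaf.stalk x) := ⟨p, hp.1.1⟩
    rw [show p = P.asIdeal from rfl, stalk_quotient_dim_eq]
    refine h _ (FibDimLib.closure_mem_irreducibleComponents_of_max fun w hw ↦ ?_) (stalkPt_specializes x P)
    obtain ⟨q, rfl⟩ := exists_stalkPt (hw.trans (stalkPt_specializes x P))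
    congr 1
    exact le_antisymm (le_of_stalkPt hw) (hp.2 ⟨q.isPrime, bot_le⟩ (le_of_stalkPt hw))

end EquidimLib
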