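import Mathlib
import Groth.Agent.EquidimLib.Points
import Groth.Agent.DevissLib.ClosedImm
import Groth.Agent.DvrFlatLib.ReducedScheme
import Groth.Agent.FibDimLib.SchemeInv
import Groth.Agent.UOpenLib.AffineSpaceOpen
import Groth.Agent.DvrDom.Scheme

/-!
# Components and fibres of morphisms flat at a point
-/

set_option autoImplicit false

universe u

open CategoryTheory Limits AlgebraicGeometry TopologicalSpace Topology

namespace EquidimLib

open UOpenLib

/-- Every annihilator prime is minimal. -/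
def NoEmbeddedPrimes (R : Type u) [CommRing R] : Prop :=
  ∀ q ∈ associatedPrimes R R, q ∈ minimalPrimes R

theorem noEmbeddedPrimes_of_isReduced (R : Type u) [CommRing R] [IsNoetherianRing R] [_root_.IsReduced R] :
    NoEmbeddedPrimes R := by
  intro q hq
  obtain ⟨hqp, b, hb⟩ := isAssociatedPrime_iff.mp hq
  have hb0 : b ≠ 0 := by
    rintro rfl
    exact hqp.ne_top (by rw [hb]; simp)
  obtain ⟨q', hq', hle⟩ := Ideal.exists_minimalPrimes_le (bot_le : (⊥ : Ideal R) ≤ q)
  suffices q' = q by rwa [← this]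
  refine le_antisymm hle fun a ha ↦ ?_
  have hab : a * b = 0 := by
    rw [hb] at ha
    simpa [Submodule.mem_colon_singleton, Submodule.mem_bot] using ha
  rcases hq'.1.1.mem_or_mem (show a * b ∈ q' by rw [hab]; exact q'.zero_mem) with h | h
  · exact h
  · refine absurd (IsReduced.pow_eq_zero (n := 2) (show b ^ 2 = 0 from ?_)) hb0
    have hbq : b ∈ q := hle h
    rw [hb] at hbq
    rw [pow_two]
    simpa [Submodule.mem_colon_singleton, Submodule.mem_bot] using hbq

section Ring

variable {A B : Type u} [CommRing A] [CommRing B] [Algebra A B] [IsLocalRing A] [IsLocalRing B]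
  [IsNoetherianRing A] [IsNoetherianRing B] [Module.Flat A B] [IsLocalHom (algebraMap A B)]

open IsLocalRing in
/-- A minimal prime of a flat local extension meets the closed fibre in an annihilator prime. -/
theorem exists_le_mem_associatedPrimes {P : Ideal B} (hP : P ∈ minimalPrimes B) :
    ∃ q ∈ associatedPrimes (B ⧸ (maximalIdeal A).map (algebraMap A B))
        (B ⧸ (maximalIdeal A).map (algebraMap A B)),
      P ≤ q.comap (Ideal.Quotient.mk ((maximalIdeal A).map (algebraMap A B))) := by
  classical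
  let I := (maximalIdeal A).map (algebraMap A B)
  have hP' : P ∈ associatedPrimes B B := by
    refine Module.associatedPrimes.minimalPrimes_annihilator_subset_associatedPrimes B B ?_
    rwa [show Module.annihilator B B = ⊥ from Module.annihilator_eq_bot.mpr inferInstance]
  obtain ⟨hPp, b, hb⟩ := isAssociatedPrime_iff.mp hP'
  have hb0 : b ≠ 0 := by
    rintro rfl
    exact hPp.ne_top (by rw [hb]; simp)
  have hI : I ≤ maximalIdeal B := Ideal.map_le_iff_le_comap.mpr fun a ha ↦ map_nonunit _ a ha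
  obtain ⟨n, hn, hn'⟩ : ∃ n, b ∈ I ^ n ∧ b ∉ I ^ (n + 1) := by
    have hex : ∃ n, b ∉ I ^ n := by
      by_contra h
      push Not at h
      have hbm : b ∈ (⨅ n, maximalIdeal B ^ n : Ideal B) :=
        Ideal.mem_iInf.mpr fun n ↦ Ideal.pow_right_mono hI n (h n)
      rw [Ideal.iInf_pow_eq_bot_of_isLocalRing _ (maximalIdeal.isMaximal B).ne_top] at hbm
      exact hb0 hbm
    have h0 : Nat.find hex ≠ 0 := fun e ↦ by simpa [e] using Nat.find_spec hex
    obtain ⟨m, hm⟩ := Nat.exists_eq_succ_of_ne_zero h0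
    exact ⟨m, not_not.mp (Nat.find_min hex (hm ▸ Nat.lt_succ_self m)),
      by have := Nat.find_spec hex; rwa [hm] at this⟩
  -- a minimal generating set of the power of the maximal ideal
  let K := maximalIdeal A ^ n
  obtain ⟨s, hscard, hs⟩ := Submodule.FG.exists_span_finset_card_eq_spanFinrank
    (IsNoetherian.noetherian K : (K : Submodule A A).FG)
  have hrel : ∀ r : A → A, ∑ a ∈ s, a * r a = 0 → ∀ a ∈ s, r a ∈ maximalIdeal A := by
    intro r hr a ha
    by_contra hu
    have hu' : IsUnit (r a) := by simpa [IsLocalRing.mem_maximalIdeal] using hu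
    have hmem : a ∈ Submodule.span A ((s.erase a : Finset A) : Set A) := by
      have h1 : a * r a = - ∑ c ∈ s.erase a, c * r c := by
        rw [← Finset.add_sum_erase s _ ha] at hr
        exact eq_neg_of_add_eq_zero_left hr
      have h2 : a * r a ∈ Submodule.span A ((s.erase a : Finset A) : Set A) := by
        rw [h1]
        refine neg_mem (Submodule.sum_mem _ fun c hc ↦ ?_)
        rw [mul_comm]
        exact Submodule.smul_mem _ (r c) (Submodule.subset_span hc)
      obtain ⟨v, hv⟩ := hu'
      have : a = (↑v⁻¹ : A) • (a * r a) := by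
        rw [smul_eq_mul, ← hv, mul_comm a, ← mul_assoc, Units.inv_mul, one_mul]
      have h3 := Submodule.smul_mem _ (↑v⁻¹ : A) h2
      rw [← this] at h3
      exact h3
    have hspan : Submodule.span A ((s.erase a : Finset A) : Set A) = K := by
      refine le_antisymm ((Submodule.span_mono (by simp)).trans hs.le) (hs.ge.trans ?_)
      refine Submodule.span_le.mpr fun c hc ↦ ?_
      rcases eq_or_ne c a with rfl | hca
      · exact hmem
      · exact Submodule.subset_span (by simp [hca, Finset.mem_coe.mp hc])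
    have h3 : (K : Submodule A A).spanFinrank ≤ (s.erase a).card := by
      rw [← hspan]
      exact (Submodule.spanFinrank_span_le_ncard_of_finite (Finset.finite_toSet _)).trans
        (Set.ncard_coe_finset _).le
    have := Finset.card_erase_lt_of_mem ha
    omega
  -- write `b` on these generators
  have hbs : b ∈ Ideal.span (algebraMap A B '' (s : Set A)) := by
    rw [← Ideal.map_span]
    show b ∈ Ideal.map (algebraMap A B) (Submodule.span A (s : Set A) : Ideal A)
    rw [hs, Ideal.map_pow]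
    exact hn
  rw [show algebraMap A B '' (s : Set A) = ((s.image (algebraMap A B) : Finset B) : Set B) by simp] at hbs
  obtain ⟨c, hc⟩ : ∃ c : A → B, ∑ a ∈ s, algebraMap A B a * c a = b := by
    rw [Finset.coe_image] at hbs
    obtain ⟨c, hcsupp, hc⟩ := Finsupp.mem_span_image_iff_linearCombination B |>.mp hbs
    refine ⟨c, ?_⟩
    rw [Finsupp.linearCombination_apply, Finsupp.sum_of_support_subset _ (fun a ha ↦ hcsupp ha)] at hc
    · simpa [smul_eq_mul, mul_comm] using hc
    · simp
  obtain ⟨a₀, ha₀, ha₀I⟩ : ∃ a ∈ s, c a ∉ I := by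
    by_contra h
    push Not at h
    refine hn' ?_
    rw [← hc, pow_succ]
    refine Ideal.sum_mem _ fun a ha ↦ Ideal.mul_mem_mul ?_ (h a ha)
    rw [← Ideal.map_pow]
    exact Ideal.mem_map_of_mem _ (hs.le (Submodule.subset_span ha))
  -- the image of that coefficient is killed by `P`
  have hkill : ∀ p ∈ P, p * c a₀ ∈ I := by
    intro p hp
    have hpb : p * b = 0 := by
      rw [hb] at hp
      simpa [Submodule.mem_colon_singleton, Submodule.mem_bot] using hp
    have hsum : ∑ a : s, (a : A) • (p * c a) = 0 := by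
      rw [← hpb, ← hc, Finset.mul_sum, ← Finset.sum_attach s (fun a ↦ p * (algebraMap A B a * c a))]
      refine Finset.sum_congr rfl fun a _ ↦ ?_
      rw [Algebra.smul_def]
      ring
    obtain ⟨k, r, y, hy, hr⟩ := Module.Flat.isTrivialRelation_of_sum_smul_eq_zero (R := A) (M := B) (f := fun a : s ↦ (a : A))
      (x := fun a : s ↦ p * c a) hsum
    rw [show p * c a₀ = _ from hy ⟨a₀, ha₀⟩]
    refine Submodule.sum_mem _ fun j _ ↦ ?_
    rw [Algebra.smul_def]
    refine Ideal.mul_mem_right _ _ (Ideal.mem_map_of_mem _ ?_)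
    have := hrel (fun a ↦ if h : a ∈ s then r ⟨a, h⟩ j else 0) (by
      rw [← Finset.sum_attach]
      refine Eq.trans (Finset.sum_congr rfl fun a _ ↦ ?_) (hr j)
      simp) a₀ ha₀
    simpa [ha₀] using this
  -- an associated prime above the annihilator
  let x : B ⧸ I := Ideal.Quotient.mk I (c a₀)
  have hx : x ≠ 0 := fun e ↦ ha₀I (Ideal.Quotient.eq_zero_iff_mem.mp e)
  obtain ⟨q, hq, hxq⟩ := exists_le_isAssociatedPrime_of_isNoetherianRing (B ⧸ I) x hx
  refine ⟨q, hq, fun p hp ↦ hxq ?_⟩
  rw [Submodule.mem_colon_singleton, Submodule.mem_bot, smul_eq_mul, ← map_mul]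
  exact Ideal.Quotient.eq_zero_iff_mem.mpr (hkill p hp)

end Ring

section Scheme

variable {X Y : Scheme.{u}}

open IsLocalRing in
/-- A component through a point of flatness contains a component of the fibre. -/
theorem exists_fibreMax_of_flat [IsLocallyNoetherian X] [IsLocallyNoetherian Y] (f : X ⟶ Y) (x : X)
    (hflat : (f.stalkMap x).hom.Flat)
    (hun : NoEmbeddedPrimes (X.presheaf.stalk x ⧸
      (maximalIdeal (Y.presheaf.stalk (f.base x))).map (f.stalkMap x).hom))
    {ζ : X} (hζ : closure {ζ} ∈ irreducibleComponents (X : Type u)) (hζx : ζ ⤳ x) :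
    ∃ w : X, ζ ⤳ w ∧ w ⤳ x ∧ f.base w = f.base x ∧ IsFibreMax f w := by
  letI := (f.stalkMap x).hom.toAlgebra
  have : Module.Flat (Y.presheaf.stalk (f.base x)) (X.presheaf.stalk x) := hflat
  have : IsLocalHom (algebraMap (Y.presheaf.stalk (f.base x)) (X.presheaf.stalk x)) :=
    inferInstanceAs (IsLocalHom (f.stalkMap x).hom)
  let j := X.fromSpecStalk x
  have hrange : ∀ z : X, z ⤳ x → ∃ Q : Spec (X.presheaf.stalk x), j.base Q = z := fun z hz ↦ by
    have h : z ∈ Set.range j.base := by rw [Scheme.range_fromSpecStalk]; exact hz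
    exact h
  have hsp : ∀ {a b : Spec (X.presheaf.stalk x)}, j.base a ⤳ j.base b → a.asIdeal ≤ b.asIdeal := fun h ↦
    (PrimeSpectrum.le_iff_specializes _ _).mpr (j.isEmbedding.isInducing.specializes_iff.mp h)
  obtain ⟨P, hP⟩ := hrange ζ hζx
  have hPmin : P.asIdeal ∈ minimalPrimes (X.presheaf.stalk x) := by
    refine ⟨⟨P.isPrime, bot_le⟩, fun P' hP' hle ↦ ?_⟩
    have h := FibDimLib.eq_of_specializes_of_closure_mem hζ (z := j.base ⟨P', hP'.1⟩) (hP ▸
      ((PrimeSpectrum.le_iff_specializes ⟨P', hP'.1⟩ P).mp hle).map j.continuous)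
    exact (congrArg PrimeSpectrum.asIdeal (j.isEmbedding.injective (h.trans hP.symm))).ge
  obtain ⟨q, hq, hPq⟩ := exists_le_mem_associatedPrimes (A := Y.presheaf.stalk (f.base x)) hPmin
  let I : Ideal (X.presheaf.stalk x) :=
    (maximalIdeal (Y.presheaf.stalk (f.base x))).map (f.stalkMap x).hom
  have hqmin : q ∈ minimalPrimes (X.presheaf.stalk x ⧸ I) := hun q hq
  have : q.IsPrime := hqmin.1.1
  let Q : Spec (X.presheaf.stalk x) := (⟨q.comap (Ideal.Quotient.mk I), inferInstance⟩ :
    PrimeSpectrum (X.presheaf.stalk x))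
  have hIQ : I ≤ Q.asIdeal := fun a ha ↦ by
    show Ideal.Quotient.mk I a ∈ q
    rw [Ideal.Quotient.eq_zero_iff_mem.mpr ha]
    exact q.zero_mem
  have hover : ∀ Q' : Spec (X.presheaf.stalk x), f.base (j.base Q') = f.base x ↔ I ≤ Q'.asIdeal := by
    intro Q'
    have h1 : f.base (j.base Q') = (Y.fromSpecStalk (f.base x)).base
        ((Spec.map (f.stalkMap x)).base Q') := by
      rw [← Scheme.Hom.comp_apply, ← Scheme.SpecMap_stalkMap_fromSpecStalk f, Scheme.Hom.comp_apply]
    rw [h1, Ideal.map_le_iff_le_comap]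
    conv_lhs => rhs; rw [← Scheme.fromSpecStalk_closedPoint (X := Y) (x := f.base x)]
    rw [(Y.fromSpecStalk (f.base x)).isEmbedding.injective.eq_iff]
    constructor
    · exact fun h ↦ (congrArg PrimeSpectrum.asIdeal h).ge
    · exact fun h ↦ PrimeSpectrum.ext
        ((maximalIdeal.isMaximal _).eq_of_le ((Spec.map (f.stalkMap x)).base Q').isPrime.ne_top h).symm
  refine ⟨j.base Q, hP ▸ ((PrimeSpectrum.le_iff_specializes P Q).mp hPq).map j.continuous, ?_,
    (hover Q).mpr hIQ, fun z hz hzQ ↦ ?_⟩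
  · have h : j.base Q ∈ Set.range j.base := ⟨Q, rfl⟩
    rwa [Scheme.range_fromSpecStalk] at h
  have hzQ' : z ⤳ j.base Q := specializes_iff_mem_closure.mpr hzQ
  obtain ⟨Q', rfl⟩ := hrange z (hzQ'.trans (by
    have h : j.base Q ∈ Set.range j.base := ⟨Q, rfl⟩
    rwa [Scheme.range_fromSpecStalk] at h))
  have hI' : I ≤ Q'.asIdeal := (hover Q').mp (hz.trans ((hover Q).mpr hIQ))
  have hle := hsp hzQ'
  have hq' : (Q'.asIdeal.map (Ideal.Quotient.mk I)).IsPrime :=
    Ideal.map_isPrime_of_surjective Ideal.Quotient.mk_surjective (by rwa [Ideal.mk_ker])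
  have hqq' : q ≤ Q'.asIdeal.map (Ideal.Quotient.mk I) := hqmin.2 ⟨hq', bot_le⟩ <| by
    rw [Ideal.map_le_iff_le_comap]
    exact hle
  congr 1
  refine PrimeSpectrum.ext (le_antisymm hle ?_)
  show q.comap (Ideal.Quotient.mk I) ≤ Q'.asIdeal
  refine (Ideal.comap_mono hqq').trans ?_
  rw [Ideal.comap_map_of_surjective _ Ideal.Quotient.mk_surjective, sup_le_iff, ← RingHom.ker_eq_comap_bot,
    Ideal.mk_ker]
  exact ⟨le_rfl, hI'⟩

/-- Maximal points of fibres project to maximal points of fibres. -/
theorem isFibreMax_fst {P Y' : Scheme.{u}} {a : P ⟶ X} {b : P ⟶ Y'} {f : X ⟶ Y} {g : Y' ⟶ Y}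
    (sq : IsPullback a b f g) {w : P} (hw : IsFibreMax b w) : IsFibreMax f (a.base w) := by
  intro z hz hzw
  obtain ⟨w₀, h1, h2, h3⟩ := exists_specializes_fst sq w (specializes_iff_mem_closure.mpr hzw) hz
  rw [← h2, hw w₀ h3 h1.mem_closure]

/-- Closures in fibres inside a closed subscheme. -/
theorem fibreClosureDim_closedImmersion {Z : Scheme.{u}} (j : Z ⟶ X) [IsClosedImmersion j] (f : X ⟶ Y)
    [LocallyOfFiniteType f] (z : Z) :
    fibreClosureDim (j ≫ f) z = fibreClosureDim f (j.base z) := by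
  rw [fibreClosureDim_eq_inter, fibreClosureDim_eq_inter]
  have himg : j.base '' (closure {z} ∩ (j ≫ f).base ⁻¹' {(j ≫ f).base z}) =
      closure {j.base z} ∩ f.base ⁻¹' {f.base (j.base z)} := by
    rw [show (j ≫ f).base ⁻¹' {(j ≫ f).base z} = j.base ⁻¹' (f.base ⁻¹' {f.base (j.base z)}) from rfl,
      Set.image_inter_preimage, ← Set.image_singleton (f := j.base),
      j.isClosedEmbedding.closure_image_eq]
  let e := (j.isEmbedding.homeomorphImage (closure {z} ∩ (j ≫ f).base ⁻¹' {(j ≫ f).base z})).trans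
    (Homeomorph.setCongr himg)
  exact IsHomeomorph.topologicalKrullDim_eq e e.isHomeomorph

/-- The generic fibre of a component through a point is large when, after base change to discrete
valuation rings, the morphism is flat with fibres without embedded primes. -/
theorem le_fibreClosureDim_of_dvr [IsLocallyNoetherian Y] (f : X ⟶ Y) [LocallyOfFiniteType f] (x : X)
    (e : ℕ) (hfib : ∀ z : X, f.base z = f.base x → z ⤳ x → IsFibreMax f z → fibreClosureDim f z = e)
    (H : ∀ (A : Type u) [CommRing A] [IsDomain A] [IsDiscreteValuationRing A] (P : Scheme.{u})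
      (p : P ⟶ X) (b : P ⟶ Spec (CommRingCat.of A)) (g : Spec (CommRingCat.of A) ⟶ Y),
      IsPullback p b f g → ∀ x' : P, p.base x' = x → b.base x' = IsLocalRing.closedPoint A →
        (b.stalkMap x').hom.Flat ∧ NoEmbeddedPrimes (P.presheaf.stalk x' ⧸
          (IsLocalRing.maximalIdeal ((Spec (CommRingCat.of A)).presheaf.stalk (b.base x'))).map
            (b.stalkMap x').hom))
    {ζ : X} (hζ : closure {ζ} ∈ irreducibleComponents (X : Type u)) (hζx : ζ ⤳ x) :
    (e : WithBot ℕ∞) ≤ fibreClosureDim f ζ := by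
  have hζmax := isFibreMax_of_max f hζ
  rcases eq_or_ne (f.base ζ) (f.base x) with heq | hne
  · exact (hfib ζ heq hζx hζmax).ge
  have : IsLocallyNoetherian X := LocallyOfFiniteType.isLocallyNoetherian f
  obtain ⟨A, h, hA, hhx, hhA⟩ := DvrDomLib.exists_dvr_through_specialization (𝟙 X) ζ x hζx
    (fun e' ↦ hne (congrArg f.base e').symm)
  haveI := hA
  let SA := Spec (CommRingCat.of A)
  let g := h ≫ f
  let P := pullback f g
  let p := pullback.fst f g
  let b := pullback.snd f g
  let s : SA ⟶ P := pullback.lift h (𝟙 SA) (by rw [Category.id_comp])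
  have hs1 : ∀ a, p.base (s.base a) = h.base a := fun a ↦ by
    rw [← Scheme.Hom.comp_apply, pullback.lift_fst]
  have hs2 : ∀ a, b.base (s.base a) = a := fun a ↦ by
    rw [← Scheme.Hom.comp_apply, pullback.lift_snd]; rfl
  let η : SA := (⟨⊥, Ideal.isPrime_bot⟩ : PrimeSpectrum A)
  have hη : η ⤳ (IsLocalRing.closedPoint A : SA) := (PrimeSpectrum.le_iff_specializes η _).mp bot_le
  have hhη : h.base η = ζ := by
    let w : Spec (X.residueField ζ) := IsLocalRing.closedPoint _
    have h1 := congrArg (fun q ↦ q.base w) hhA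
    simp only [Scheme.Hom.comp_apply, Category.comp_id] at h1
    rw [X.fromSpecResidueField_apply ζ w] at h1
    refine Eq.trans ?_ h1
    congr 1
    apply PrimeSpectrum.ext
    show (⊥ : Ideal A) = Ideal.comap A.subtype w.asIdeal
    have : w.asIdeal = ⊥ := IsLocalRing.isField_iff_maximalIdeal_eq.mp (Field.toIsField _)
    rw [this, ← RingHom.ker_eq_comap_bot, (RingHom.injective_iff_ker_eq_bot _).mp Subtype.val_injective]
  let x' : P := s.base (IsLocalRing.closedPoint A)
  have hpx' : p.base x' = x := (hs1 _).trans hhx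
  have hbx' : b.base x' = IsLocalRing.closedPoint A := hs2 _
  obtain ⟨hflat, hun⟩ := H A P p b g (IsPullback.of_hasPullback f g) x' hpx' hbx'
  obtain ⟨ζ', hζ', hζ's⟩ := DvrDomLib.exists_generic_specializes (s.base η)
  have hbζ' : b.base ζ' = η := by
    have h1 : b.base ζ' ⤳ η := by
      have := hζ's.map b.continuous
      rwa [hs2] at this
    exact (h1.antisymm ((PrimeSpectrum.le_iff_specializes η _).mp bot_le)).eq
  have hpζ' : p.base ζ' = ζ := by
    refine FibDimLib.eq_of_specializes_of_closure_mem hζ ?_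
    have := hζ's.map p.continuous
    rwa [hs1, hhη] at this
  have hζ'x : ζ' ⤳ x' := hζ's.trans (hη.map s.continuous)
  have : IsLocallyNoetherian SA := inferInstance
  have : IsLocallyNoetherian P := LocallyOfFiniteType.isLocallyNoetherian b
  obtain ⟨w, hζw, hwx, hbw, hwmax⟩ := exists_fibreMax_of_flat b x' hflat hun hζ' hζ'x
  have hd : FlatMor.fibreDimAt b w = e := by
    rw [FibDimLib.fibreDimAt_baseChange (IsPullback.of_hasPullback f g) w]
    have hm := isFibreMax_fst (IsPullback.of_hasPullback f g) hwmax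
    refine (fibreDimAt_eq_of_max f hm).trans (hfib _ ?_ (hpx' ▸ hwx.map p.continuous) hm)
    show f.base (p.base w) = f.base x
    have hpg : ∀ v : P, f.base (p.base v) = g.base (b.base v) := fun v ↦ by
      rw [← Scheme.Hom.comp_apply, pullback.condition, Scheme.Hom.comp_apply]
    rw [← hpx', hpg, hpg, hbw]
  -- pass to the component
  let T : Closeds P := ⟨closure {ζ'}, isClosed_closure⟩
  let J := (Scheme.IdealSheafData.vanishingIdeal T)
  let j := J.subschemeι
  have hrange : Set.range j.base = closure {ζ'} := by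
    rw [J.range_subschemeι, Scheme.IdealSheafData.coe_support_vanishingIdeal]
    rfl
  obtain ⟨w₀, hw₀⟩ : w ∈ Set.range j.base := hrange ▸ hζw.mem_closure
  obtain ⟨ζ₀, hζ₀⟩ : ζ' ∈ Set.range j.base := hrange ▸ subset_closure rfl
  have hj : ∀ {u v}, j.base u ⤳ j.base v → u ⤳ v := fun h ↦ j.isEmbedding.isInducing.specializes_iff.mp h
  have hmax₀ : IsFibreMax (j ≫ b) w₀ := fun v hv hvw ↦ j.isEmbedding.injective (by
    rw [hw₀]
    exact hwmax (j.base v) (hw₀ ▸ hv) (hw₀ ▸ ((specializes_iff_mem_closure.mpr hvw).map j.continuous)).mem_closure)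
  obtain ⟨ξ, -, hξη, hξd⟩ := exists_generization_of_lift (j ≫ b) hmax₀ (y₁ := η) (by
      rw [Scheme.Hom.comp_apply, hw₀, hbw, hbx']; exact hη) fun y' _ hy' ↦ by
    rcases eq_closedPoint_or_eq_bot y' with rfl | rfl
    · exact ⟨w₀, specializes_rfl, by rw [Scheme.Hom.comp_apply, hw₀, hbw, hbx']⟩
    · exact ⟨ζ₀, hj (by rw [hζ₀, hw₀]; exact hζw), by rw [Scheme.Hom.comp_apply, hζ₀]; exact hbζ'⟩
  rw [fibreDimAt_eq_of_max (j ≫ b) hmax₀, fibreClosureDim_closedImmersion, hw₀,
    ← fibreDimAt_eq_of_max b hwmax, hd, fibreClosureDim_closedImmersion] at hξd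
  have hξ : ζ' ⤳ j.base ξ := specializes_iff_mem_closure.mpr (hrange ▸ ⟨ξ, rfl⟩)
  refine hξd.trans ((fibreClosureDim_mono b hξ ?_).trans ?_)
  · rw [hbζ', ← Scheme.Hom.comp_apply, hξη]
  · rw [← fibreDimAt_eq_of_max b (isFibreMax_of_max b hζ'), ← fibreDimAt_eq_of_max f hζmax,
      FibDimLib.fibreDimAt_baseChange (IsPullback.of_hasPullback f g) ζ', hpζ']

end Scheme

end EquidimLib
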