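import Mathlib
import Groth.Agent.EquidimLib.DimFormula
import Groth.Agent.UOpenLib.UnibranchTFAE
import Groth.Agent.EquidimLib.FlatComponents
import Groth.Agent.FibDimLib.GenIneq

/-!
# Equidimensionality and the dimension of local rings
-/

set_option autoImplicit false

universe u

open CategoryTheory Limits AlgebraicGeometry TopologicalSpace Topology

namespace EquidimLib

open UOpenLib

variable {X Y : Scheme.{u}} [IsLocallyNoetherian Y] (f : X ⟶ Y) [LocallyOfFiniteType f]

/-- A large local ring at `x` over an equidimensional base gives equidimensionality. -/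
theorem isEquidimAt_of_dim_ge (x : X) (hX : EGA4.IsEquidim (X.presheaf.stalk x))
    (hY : EGA4.IsEquidim (Y.presheaf.stalk (f.base x)))
    (h : ∀ z : X, f.base z = f.base x → z ⤳ x → IsFibreMax f z →
      ringKrullDim (Y.presheaf.stalk (f.base x)) + fibreClosureDim f z ≤
        ringKrullDim (X.presheaf.stalk x) + fibreClosureDim f x) :
    EGA43.IsEquidimAt f x := by
  have : IsLocallyNoetherian X := LocallyOfFiniteType.isLocallyNoetherian f
  obtain ⟨d, hd⟩ := exists_stalk_dim_eq_nat x
  obtain ⟨A, hA⟩ := exists_stalk_dim_eq_nat (f.base x)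
  obtain ⟨c, hc⟩ := exists_fibreClosureDim_eq_nat f x
  obtain ⟨e, he⟩ := exists_fibreDimAt_eq_nat f x
  obtain ⟨z, hz, hzx, hzmax, hzd⟩ := exists_max_fibreDimAt f x
  have h1 := h z hz hzx fun z' hz' hsp ↦ hzmax z' hz' hsp
  rw [hA, hd, hc, hzd, he] at h1
  have h1' : A + e ≤ d + c := by exact_mod_cast h1
  obtain ⟨U₀, hxU₀, hle⟩ := exists_nhd_fibreClosureDim_le f x he
  obtain ⟨U, hxU, hUU₀, hUx⟩ := exists_open_max_through x U₀ hxU₀
  refine isEquidimAt_of_bounds f x e U hxU (fun v hv ↦ hle v (hUU₀ hv)) fun ξ hξU hξ ↦ ?_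
  have hξx := hUx ξ hξU hξ
  have hup := dimBetween_add_fibreClosureDim_le f hξx
  rw [(isEquidim_stalk_iff x).mp hX ξ hξ hξx, hd, hc] at hup
  obtain ⟨a, ha⟩ := exists_dimBetween_eq_nat (hξx.map f.continuous)
  obtain ⟨k, hk⟩ := exists_fibreClosureDim_eq_nat f ξ
  rw [ha, hk] at hup
  have hup' : d + c ≤ a + k := by exact_mod_cast hup
  have haA : a ≤ A := by
    have := dimBetween_le_stalk (f.base ξ) (f.base x)
    rw [ha, hA] at this
    exact_mod_cast this
  have hke : k ≤ e := by
    have := fibreClosureDim_le_fibreDimAt f hξx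
    rw [hk, he] at this
    exact_mod_cast this
  refine ⟨?_, by rw [hk]; exact_mod_cast (show e ≤ k by omega)⟩
  obtain ⟨η, hη, hηξ⟩ := DvrDomLib.exists_generic_specializes (f.base ξ)
  rcases eq_or_ne η (f.base ξ) with rfl | hne
  · exact hη
  exfalso
  have h2 := dimBetween_add_le hηξ (hξx.map f.continuous)
  rw [(isEquidim_stalk_iff (f.base x)).mp hY η hη (hηξ.trans (hξx.map f.continuous)), ha, hA] at h2
  have h3 := (add_le_add (one_le_dimBetween hηξ hne) le_rfl).trans h2
  have h4 : 1 + a ≤ A := by exact_mod_cast h3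
  omega

/-- Openness at the maximal points of the fibre bounds the dimension from below. -/
theorem dim_ge_of_isOpenAt (x : X) {z : X} (hz : f.base z = f.base x) (hzx : z ⤳ x) (hmax : IsFibreMax f z)
    (hopen : EGA43.IsOpenAt f.base z) :
    ringKrullDim (Y.presheaf.stalk (f.base x)) + fibreClosureDim f z ≤
      ringKrullDim (X.presheaf.stalk x) + fibreClosureDim f x := by
  have : IsLocallyNoetherian X := LocallyOfFiniteType.isLocallyNoetherian f
  have h1 := dim_base_le_stalk f z hmax ((Groth.Agent.S3404.result f z).1 hopen)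
  rw [hz] at h1
  rw [fibreClosureDim_eq_add f hzx hz]
  calc ringKrullDim (Y.presheaf.stalk (f.base x)) + (fibreClosureDim f x + dimBetween z x)
      ≤ ringKrullDim (X.presheaf.stalk z) + (fibreClosureDim f x + dimBetween z x) := add_le_add h1 le_rfl
    _ = (ringKrullDim (X.presheaf.stalk z) + dimBetween z x) + fibreClosureDim f x := by
        rw [add_assoc, add_comm (fibreClosureDim f x)]
    _ ≤ _ := add_le_add (stalk_dim_add_le hzx) le_rfl

omit [IsLocallyNoetherian Y] in
/-- A geometrically unibranch point has a unique maximal generization. -/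
theorem exists_generic_of_unibranch {y : Y} (hy : CAlg2.IsGeomUnibranch (Y.presheaf.stalk y)) :
    ∃ η : Y, η ⤳ y ∧ closure {η} ∈ irreducibleComponents (Y : Type u) ∧ ∀ v, v ⤳ y → η ⤳ v := by
  have hnil : (nilradical (Y.presheaf.stalk y)).IsPrime :=
    (Ideal.Quotient.isDomain_iff_prime _).mp hy.1.1
  have hall : ∀ v, v ⤳ y → stalkPt y ⟨_, hnil⟩ ⤳ v := fun v hv ↦ by
    obtain ⟨q, rfl⟩ := exists_stalkPt hv
    exact specializes_stalkPt (show nilradical (Y.presheaf.stalk y) ≤ q.asIdeal from nilradical_le_prime _)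
  refine ⟨_, stalkPt_specializes y _, FibDimLib.closure_mem_irreducibleComponents_of_max fun w hw ↦ ?_, hall⟩
  exact (hw.antisymm (hall w (hw.trans (stalkPt_specializes y _)))).eq

theorem isEquidim_stalk_of_unibranch {y : Y} (hy : CAlg2.IsGeomUnibranch (Y.presheaf.stalk y)) :
    EGA4.IsEquidim (Y.presheaf.stalk y) := by
  obtain ⟨η, hηy, hη, hall⟩ := exists_generic_of_unibranch hy
  obtain ⟨η', hη', hη'y, hd⟩ := exists_max_dimBetween y
  refine (isEquidim_stalk_iff y).mpr fun ξ hξ hξy ↦ ?_
  rwa [← FibDimLib.eq_of_specializes_of_closure_mem hξ (hall ξ hξy),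
    FibDimLib.eq_of_specializes_of_closure_mem hη' (hall η' hη'y)]

/-- Over a geometrically unibranch point, equidimensionality gives universal openness and
equidimensional local rings. -/
theorem isEquidim_of_isEquidimAt (x : X) (hy : CAlg2.IsGeomUnibranch (Y.presheaf.stalk (f.base x)))
    (h : EGA43.IsEquidimAt f x) :
    EGA4.IsEquidim (X.presheaf.stalk x) ∧
      ∀ z : X, f.base z = f.base x → z ⤳ x → IsFibreMax f z → EGA43.IsUnivOpenAt f z := by
  have : IsLocallyNoetherian X := LocallyOfFiniteType.isLocallyNoetherian f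
  obtain ⟨e, U, hU⟩ := (isEquidimAt_iff f x).mp h
  have hd := hU.fibreDimAt_eq f hU.mem
  have hξ_dim : ∀ ξ : X, closure {ξ} ∈ irreducibleComponents (X : Type u) → ξ ⤳ x →
      fibreClosureDim f ξ = e := fun ξ hξ hξx ↦
    hU.dim ξ (hξx.mem_open U.isOpen hU.mem) (isFibreMax_of_max f hξ)
  have hopen : ∀ z : X, f.base z = f.base x → z ⤳ x → IsFibreMax f z → EGA43.IsUnivOpenAt f z := by
    intro z hz hzx hzmax
    obtain ⟨ξ, hξ, hξz⟩ := DvrDomLib.exists_generic_specializes z
    refine isUnivOpenAt_of_unibranch f z (hz.symm ▸ hy) hξz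
      (hU.max ξ ((hξz.trans hzx).mem_open U.isOpen hU.mem) hξ).1 ?_
    rw [hξ_dim ξ hξ (hξz.trans hzx), fibreDimAt_eq_of_max f hzmax,
      hU.dim z (hzx.mem_open U.isOpen hU.mem) hzmax]
  refine ⟨?_, hopen⟩
  obtain ⟨A, hA⟩ := exists_stalk_dim_eq_nat (f.base x)
  obtain ⟨c, hc⟩ := exists_fibreClosureDim_eq_nat f x
  obtain ⟨η, hηy, hη, hall⟩ := exists_generic_of_unibranch hy
  have hkey : ∀ ξ : X, closure {ξ} ∈ irreducibleComponents (X : Type u) → ξ ⤳ x →
      dimBetween ξ x + c = (A + e : ℕ) := by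
    intro ξ hξ hξx
    have hfξ : f.base ξ = η := by
      have h1 := (hU.max ξ (hξx.mem_open U.isOpen hU.mem) hξ).1
      exact (FibDimLib.eq_of_specializes_of_closure_mem h1 (hall _ (hξx.map f.continuous))).symm
    refine le_antisymm ?_ ?_
    · have := dimBetween_add_fibreClosureDim_le f hξx
      rw [hc, hξ_dim ξ hξ hξx] at this
      refine this.trans ?_
      push_cast
      exact add_le_add ((dimBetween_le_stalk _ _).trans hA.le) le_rfl
    -- a maximal point of the fibre of the component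
    let J := Scheme.IdealSheafData.vanishingIdeal (⟨closure {ξ}, isClosed_closure⟩ : Closeds X)
    let j := J.subschemeι
    have hrange : Set.range j.base = closure {ξ} := by
      rw [J.range_subschemeι, Scheme.IdealSheafData.coe_support_vanishingIdeal]
      rfl
    have : IsLocallyNoetherian J.subscheme := LocallyOfFiniteType.isLocallyNoetherian j
    obtain ⟨x₀, hx₀⟩ : x ∈ Set.range j.base := hrange ▸ hξx.mem_closure
    obtain ⟨ξ₀, hξ₀⟩ : ξ ∈ Set.range j.base := hrange ▸ subset_closure rfl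
    have hsp : ∀ {a b}, j.base a ⤳ j.base b → a ⤳ b := fun h ↦ j.isEmbedding.isInducing.specializes_iff.mp h
    obtain ⟨z₀, hz₀, hz₀x, hz₀max, hz₀d⟩ := exists_max_fibreDimAt (j ≫ f) x₀
    let z := j.base z₀
    have hzx : z ⤳ x := hx₀ ▸ hz₀x.map j.continuous
    have hfz : f.base z = f.base x := by
      rw [← hx₀]; exact hz₀
    have hξz : ξ ⤳ z := specializes_iff_mem_closure.mpr (hrange ▸ ⟨z₀, rfl⟩)
    have hze : (e : WithBot ℕ∞) ≤ fibreClosureDim f z := by
      have h1 := fibreClosureDim_le_fibreDimAt (j ≫ f) (hsp (hξ₀.symm ▸ hx₀.symm ▸ hξx) : ξ₀ ⤳ x₀)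
      rw [← hz₀d, fibreClosureDim_closedImmersion, fibreClosureDim_closedImmersion, hξ₀,
        hξ_dim ξ hξ hξx] at h1
      exact h1
    have hzmax : IsFibreMax f z := by
      intro z' hz' hsp'
      have hsp' : z' ⤳ z := specializes_iff_mem_closure.mpr hsp'
      by_contra hne
      have h1 := FibDimLib.fibreClosureDim_lt f hsp' hne hz'
      have h2 := fibreClosureDim_le_fibreDimAt f (hsp'.trans hzx)
      rw [hd] at h2
      exact absurd (hze.trans_lt h1) (not_lt.mpr h2)
    have huz : EGA43.IsUnivOpenAt (j ≫ f) z₀ := by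
      refine isUnivOpenAt_of_unibranch (j ≫ f) z₀ ?_
        (hsp (hξ₀.symm ▸ hξz) : ξ₀ ⤳ z₀) ?_ ?_
      · rw [show (j ≫ f).base z₀ = f.base x from hfz]; exact hy
      · rw [Scheme.Hom.comp_apply, hξ₀, hfξ]; exact hη
      · rw [fibreDimAt_eq_of_max (j ≫ f) hz₀max, fibreClosureDim_closedImmersion,
          fibreClosureDim_closedImmersion, hξ₀, hξ_dim ξ hξ hξx]
        exact (fibreClosureDim_le_fibreDimAt f hzx).trans hd.le
    have hlow := dim_base_le_dimBetween f hξz hzmax fun y' hy' ↦ by
      obtain ⟨v, hv, hv'⟩ := (Groth.Agent.S3404.result (j ≫ f) z₀).1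
        (isOpenAt_of_isUnivOpenAt _ huz) y' hy'
      exact ⟨j.base v, specializes_iff_mem_closure.mpr (hrange ▸ ⟨v, rfl⟩), hv.map j.continuous, hv'⟩
    rw [hfz, hA] at hlow
    have h3 := fibreClosureDim_eq_add f hzx hfz
    rw [hc] at h3
    push_cast
    calc (A : WithBot ℕ∞) + e ≤ dimBetween ξ z + fibreClosureDim f z := add_le_add hlow hze
      _ = (dimBetween ξ z + dimBetween z x) + c := by rw [h3, add_comm (c : WithBot ℕ∞), add_assoc]
      _ ≤ _ := add_le_add (dimBetween_add_le hξz hzx) le_rfl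
  refine (isEquidim_stalk_iff x).mpr fun ξ hξ hξx ↦ ?_
  obtain ⟨ξ', hξ', hξ'x, hd'⟩ := exists_max_dimBetween x
  rw [← hd']
  obtain ⟨a, ha⟩ := exists_dimBetween_eq_nat hξx
  obtain ⟨b, hb⟩ := exists_dimBetween_eq_nat hξ'x
  have h1 := hkey ξ hξ hξx
  have h2 := hkey ξ' hξ' hξ'x
  rw [ha] at h1
  rw [hb] at h2
  have h1' : a + c = A + e := by exact_mod_cast h1
  have h2' : b + c = A + e := by exact_mod_cast h2
  rw [ha, hb]
  exact_mod_cast (show a = b by omega)

/-- Points of a fibre as points of the fibre scheme. -/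
theorem exists_asFiber_of_specializes (x : X) (z : X) (hz : f.base z = f.base x) (hzx : z ⤳ x)
    (hmax : IsFibreMax f z) :
    ∃ w : ↥(f.fiber (f.base x)), (f.fiberι (f.base x)).base w = z ∧ f.asFiber x ∈ closure {w} ∧
      ∀ w', w ∈ closure {w'} → w' = w := by
  refine ⟨(f.fiberHomeo (f.base x)).symm ⟨z, hz⟩, f.fiberι_fiberHomeo_symm _ _, ?_, fun w' hw' ↦ ?_⟩
  · refine ((f.fiberι (f.base x)).isEmbedding.isInducing.specializes_iff.mp ?_).mem_closure
    rw [f.fiberι_fiberHomeo_symm, f.fiberι_asFiber]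
    exact hzx
  · refine (f.fiberι (f.base x)).isEmbedding.injective ?_
    rw [f.fiberι_fiberHomeo_symm]
    refine hmax _ ?_ ?_
    · have h := Set.mem_range_self (f := (f.fiberι (f.base x)).base) w'
      rw [f.range_fiberι] at h
      exact h.trans hz.symm
    · have := (specializes_iff_mem_closure.mpr hw').map (f.fiberι (f.base x)).continuous
      rw [f.fiberι_fiberHomeo_symm] at this
      exact this.mem_closure

omit [IsLocallyNoetherian Y] [LocallyOfFiniteType f] in
theorem isFibreMax_of_fiber (x : X) (w : ↥(f.fiber (f.base x))) (hw : f.asFiber x ∈ closure {w})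
    (hmax : ∀ w', w ∈ closure {w'} → w' = w) :
    f.base ((f.fiberι (f.base x)).base w) = f.base x ∧ (f.fiberι (f.base x)).base w ⤳ x ∧
      IsFibreMax f ((f.fiberι (f.base x)).base w) := by
  refine ⟨?_, ?_, max_of_closure_mem f
    (FibDimLib.closure_mem_irreducibleComponents_of_max fun v hv ↦ hmax v hv.mem_closure)⟩
  · have h := Set.mem_range_self (f := (f.fiberι (f.base x)).base) w
    rw [f.range_fiberι] at h
    exact h
  · have := (specializes_iff_mem_closure.mpr hw).map (f.fiberι (f.base x)).continuous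
    rwa [f.fiberι_asFiber] at this

end EquidimLib
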