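import Mathlib
import Groth.Agent.UOpenLib.AffineSpaceOpen
import Groth.Agent.EquidimLib.Points

/-!
# Affine charts of affine space and maximal points
-/

set_option autoImplicit false

universe u

open CategoryTheory Limits AlgebraicGeometry TopologicalSpace Topology MvPolynomial

namespace EquidimLib

open UOpenLib

theorem max_iff_of_isOpenEmbedding {α β : Type*} [TopologicalSpace α] [TopologicalSpace β] [T0Space α]
    [T0Space β] [QuasiSober α] [QuasiSober β] {i : α → β} (hi : IsOpenEmbedding i) (a : α) :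
    closure {a} ∈ irreducibleComponents α ↔ closure {i a} ∈ irreducibleComponents β := by
  constructor <;> intro h
  · refine FibDimLib.closure_mem_irreducibleComponents_of_max fun w hw ↦ ?_
    obtain ⟨b, rfl⟩ := hw.mem_open hi.isOpen_range ⟨a, rfl⟩
    rw [FibDimLib.eq_of_specializes_of_closure_mem h (hi.isInducing.specializes_iff.mp hw)]
  · refine FibDimLib.closure_mem_irreducibleComponents_of_max fun w hw ↦ hi.injective ?_
    exact FibDimLib.eq_of_specializes_of_closure_mem h (hw.map hi.continuous)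

theorem isPrime_map_C {A : Type u} [CommRing A] (p : Ideal A) [p.IsPrime] (n : ℕ) :
    (p.map (C (σ := Fin n))).IsPrime := by
  have := MvPolynomial.ker_map (σ := Fin n) (Ideal.Quotient.mk p)
  rw [Ideal.mk_ker] at this
  rw [← this]
  exact RingHom.ker_isPrime _

theorem comap_map_C {A : Type u} [CommRing A] (p : Ideal A) (n : ℕ) :
    (p.map (C (σ := Fin n))).comap C = p := by
  refine le_antisymm (fun a ha ↦ ?_) Ideal.le_comap_map
  have := MvPolynomial.mem_map_C_iff.mp (ha : C a ∈ p.map C) 0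
  rwa [MvPolynomial.coeff_zero_C] at this

/-- The maximal points of affine space over an affine base are the generic points over maximal
points. -/
theorem max_poly_iff {A : Type u} [CommRing A] {n : ℕ} (Q : PrimeSpectrum (MvPolynomial (Fin n) A)) :
    closure {Q} ∈ irreducibleComponents (PrimeSpectrum (MvPolynomial (Fin n) A)) ↔
      Q.asIdeal = (PrimeSpectrum.comap C Q).asIdeal.map C ∧
        closure {PrimeSpectrum.comap C Q} ∈ irreducibleComponents (PrimeSpectrum A) := by
  have hle : ∀ {a b : PrimeSpectrum (MvPolynomial (Fin n) A)}, a.asIdeal ≤ b.asIdeal → a ⤳ b :=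
    fun h ↦ (PrimeSpectrum.le_iff_specializes _ _).mp h
  constructor
  · intro h
    let P (p : PrimeSpectrum A) : PrimeSpectrum (MvPolynomial (Fin n) A) :=
      ⟨p.asIdeal.map C, isPrime_map_C p.asIdeal n⟩
    have h1 : ∀ p : PrimeSpectrum A, p.asIdeal ≤ Q.asIdeal.comap C → P p = Q := fun p hp ↦
      FibDimLib.eq_of_specializes_of_closure_mem h (hle (Ideal.map_le_iff_le_comap.mpr hp))
    refine ⟨(congrArg PrimeSpectrum.asIdeal (h1 _ le_rfl)).symm,
      FibDimLib.closure_mem_irreducibleComponents_of_max fun p hp ↦ PrimeSpectrum.ext ?_⟩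
    have hp' : p.asIdeal ≤ Q.asIdeal.comap C := (PrimeSpectrum.le_iff_specializes _ _).mpr hp
    conv_rhs => rw [← h1 p hp']
    exact (comap_map_C _ n).symm
  · rintro ⟨h1, h2⟩
    refine FibDimLib.closure_mem_irreducibleComponents_of_max fun Q' hQ' ↦ PrimeSpectrum.ext ?_
    have h3 : PrimeSpectrum.comap C Q' = PrimeSpectrum.comap C Q :=
      FibDimLib.eq_of_specializes_of_closure_mem h2 (hQ'.map (PrimeSpectrum.continuous_comap _))
    refine le_antisymm ((PrimeSpectrum.le_iff_specializes _ _).mpr hQ') ?_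
    rw [h1, ← h3]
    exact Ideal.map_comap_le

variable {S : Scheme.{u}} {V : S.Opens} (hV : IsAffineOpen V) (n : ℕ)

/-- The chart of affine space over an affine open. -/
noncomputable def chartA : Spec (CommRingCat.of (MvPolynomial (Fin n) Γ(S, V))) ⟶ 𝔸(ULift.{u} (Fin n); S) :=
  Spec.map (MvPolynomial.renameEquiv Γ(S, V)
      (Equiv.ulift : ULift.{u} (Fin n) ≃ Fin n)).toRingEquiv.toCommRingCatIso.hom ≫
    (AffineSpace.SpecIso (ULift.{u} (Fin n)) Γ(S, V)).inv ≫ AffineSpace.map _ hV.fromSpec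

instance : IsOpenImmersion (chartA hV n) := by
  have : IsOpenImmersion (AffineSpace.map (ULift.{u} (Fin n)) hV.fromSpec) :=
    MorphismProperty.of_isPullback (AffineSpace.isPullback_map (n := ULift.{u} (Fin n)) hV.fromSpec).flip
      inferInstance
  unfold chartA
  infer_instance

theorem chartA_over : chartA hV n ≫ (𝔸(ULift.{u} (Fin n); S) ↘ S) =
    polyProj Γ(S, V) n ≫ hV.fromSpec := by
  simp only [chartA, Category.assoc, AffineSpace.map_over]
  rw [AffineSpace.SpecIso_inv_over_assoc, ← Spec.map_comp_assoc]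
  congr 2
  exact CommRingCat.hom_ext (RingHom.ext fun a ↦ MvPolynomial.rename_C _ a)

theorem chartA_range (c : ↥𝔸(ULift.{u} (Fin n); S))
    (hc : (𝔸(ULift.{u} (Fin n); S) ↘ S).base c ∈ V) : c ∈ Set.range (chartA hV n).base := by
  rw [← SetLike.mem_coe, ← hV.range_fromSpec] at hc
  obtain ⟨b, hb⟩ := hc
  obtain ⟨a, ha, -⟩ := image_fst_snd
    (AffineSpace.isPullback_map (n := ULift.{u} (Fin n)) hV.fromSpec).flip.flip c b hb.symm
  obtain ⟨a', ha'⟩ : a ∈ Set.range (Spec.map (MvPolynomial.renameEquiv Γ(S, V)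
      (Equiv.ulift : ULift.{u} (Fin n) ≃ Fin n)).toRingEquiv.toCommRingCatIso.hom ≫
      (AffineSpace.SpecIso (ULift.{u} (Fin n)) Γ(S, V)).inv).base :=
    (Scheme.Hom.homeomorph (Spec.map (MvPolynomial.renameEquiv Γ(S, V)
      (Equiv.ulift : ULift.{u} (Fin n) ≃ Fin n)).toRingEquiv.toCommRingCatIso.hom ≫
      (AffineSpace.SpecIso (ULift.{u} (Fin n)) Γ(S, V)).inv)).surjective a
  refine ⟨a', ?_⟩
  rw [← ha, ← ha', ← Scheme.Hom.comp_apply]
  simp only [chartA, Category.assoc]

/-- The structure of a morphism from an affine scheme given by a polynomial algebra. -/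
theorem chart_comp {X : Scheme.{u}} (f : X ⟶ S) {U : X.Opens} (hU : IsAffineOpen U) (eUV : U ≤ f ⁻¹ᵁ V)
    (φ : MvPolynomial (Fin n) Γ(S, V) →+* Γ(X, U)) (hφ : φ.comp C = (f.appLE V U eUV).hom) :
    (Spec.map (CommRingCat.ofHom φ) ≫ chartA hV n) ≫ (𝔸(ULift.{u} (Fin n); S) ↘ S) =
      hU.fromSpec ≫ f := by
  rw [Category.assoc, chartA_over, ← Spec.map_comp_assoc, ← CommRingCat.ofHom_comp, hφ,
    CommRingCat.ofHom_hom]
  exact IsAffineOpen.SpecMap_appLE_fromSpec f hV hU eUV

/-- A morphism to affine space in charts. -/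
theorem exists_chart {X : Scheme.{u}} (f : X ⟶ S) [LocallyOfFiniteType f]
    (g : X ⟶ 𝔸(ULift.{u} (Fin n); S)) [LocallyQuasiFinite g]
    (hg : g ≫ (𝔸(ULift.{u} (Fin n); S) ↘ S) = f) {U : X.Opens} (hU : IsAffineOpen U) (eUV : U ≤ f ⁻¹ᵁ V) :
    ∃ φ : MvPolynomial (Fin n) Γ(S, V) →+* Γ(X, U), φ.comp C = (f.appLE V U eUV).hom ∧
      φ.QuasiFinite ∧ φ.FiniteType ∧
        Spec.map (CommRingCat.ofHom φ) ≫ chartA hV n = hU.fromSpec ≫ g := by
  have hrange : Set.range (hU.fromSpec ≫ g).base ⊆ Set.range (chartA hV n).base := by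
    rintro _ ⟨c, rfl⟩
    refine chartA_range hV n _ ?_
    rw [← Scheme.Hom.comp_apply, Category.assoc, hg, Scheme.Hom.comp_apply]
    exact eUV (by
      have h := Set.mem_range_self (f := hU.fromSpec.base) c
      rwa [hU.range_fromSpec] at h)
  let l := IsOpenImmersion.lift (chartA hV n) (hU.fromSpec ≫ g) hrange
  have hl : l ≫ chartA hV n = hU.fromSpec ≫ g := IsOpenImmersion.lift_fac _ _ _
  obtain ⟨φ, hφl⟩ := Spec.map_surjective l
  have hφ : φ.hom.comp C = (f.appLE V U eUV).hom := by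
    have h1 : (Spec.map φ ≫ polyProj Γ(S, V) n) ≫ hV.fromSpec =
        Spec.map (f.appLE V U eUV) ≫ hV.fromSpec := by
      rw [IsAffineOpen.SpecMap_appLE_fromSpec f hV hU eUV, Category.assoc, ← chartA_over, hφl,
        reassoc_of% hl, hg]
    rw [cancel_mono, ← Spec.map_comp] at h1
    exact congrArg CommRingCat.Hom.hom (Spec.map_injective h1)
  refine ⟨φ.hom, hφ, ?_, RingHom.FiniteType.of_comp_finiteType (f := C) ?_, ?_⟩
  · have : LocallyQuasiFinite (l ≫ chartA hV n) := hl.symm ▸ inferInstance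
    have : LocallyQuasiFinite l := .of_comp l (chartA hV n)
    rw [← hφl] at this
    exact HasRingHomProperty.Spec_iff.mp this
  · rw [hφ]
    exact HasRingHomProperty.appLE @LocallyOfFiniteType f inferInstance ⟨V, hV⟩ ⟨U, hU⟩ eUV
  · rw [CommRingCat.ofHom_hom, hφl, hl]

/-- Generic points of components mapping to generic points of affine space have large fibres. -/
theorem max_of_qf_affineSpace {X : Scheme.{u}} (f : X ⟶ S) [LocallyOfFiniteType f]
    (g : X ⟶ 𝔸(ULift.{u} (Fin n); S)) [LocallyQuasiFinite g]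
    (hg : g ≫ (𝔸(ULift.{u} (Fin n); S) ↘ S) = f) (z : X) :
    fibreClosureDim f z ≤ n ∧
      (closure {g.base z} ∈ irreducibleComponents (↥𝔸(ULift.{u} (Fin n); S) : Type u) →
        closure {f.base z} ∈ irreducibleComponents (S : Type u) ∧ (n : WithBot ℕ∞) ≤ fibreClosureDim f z) := by
  obtain ⟨_, ⟨V, hV, rfl⟩, hzV, -⟩ :=
    S.isBasis_affineOpens.exists_subset_of_mem_open (Set.mem_univ (f.base z)) isOpen_univ
  obtain ⟨_, ⟨U, hU, rfl⟩, hzU, eUV⟩ :=
    X.isBasis_affineOpens.exists_subset_of_mem_open hzV (f ⁻¹ᵁ V).isOpen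
  have hV : IsAffineOpen V := hV
  have hU : IsAffineOpen U := hU
  have eUV : U ≤ f ⁻¹ᵁ V := eUV
  obtain ⟨φ, hφ, hqf, hft, hφg⟩ := exists_chart hV n f g hg hU eUV
  refine ⟨fibreClosureDim_le f hV hU eUV φ hφ hqf hzU, fun hmax ↦ ?_⟩
  let q := hU.primeIdealOf ⟨z, hzU⟩
  have h1 : (chartA hV n).base (PrimeSpectrum.comap φ q) = g.base z := by
    show (chartA hV n).base ((Spec.map (CommRingCat.ofHom φ)).base q) = _
    rw [← Scheme.Hom.comp_apply, hφg, Scheme.Hom.comp_apply]
    exact congrArg g.base (hU.fromSpec_primeIdealOf ⟨z, hzU⟩)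
  rw [← h1] at hmax
  obtain ⟨h2, h3⟩ := (max_poly_iff _).mp
    ((max_iff_of_isOpenEmbedding (chartA hV n).isOpenEmbedding (PrimeSpectrum.comap φ q)).mpr hmax)
  rw [← PrimeSpectrum.comap_comp_apply, comap_primeIdealOf f hV hU eUV φ hφ z hzU] at h2 h3
  refine ⟨?_, le_fibreClosureDim_of_comap_eq f hV hU eUV φ hφ hft hzU h2⟩
  have := (max_iff_of_isOpenEmbedding hV.fromSpec.isOpenEmbedding
    (hV.primeIdealOf ⟨f.base z, eUV hzU⟩)).mp h3
  rwa [hV.fromSpec_primeIdealOf] at this

end EquidimLib
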