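import Mathlib
import Groth.Agent.EquidimLib.FlatComponents
import Groth.Agent.DvrFlatLib.UnivOpen
import Groth.Agent.FlatLib.FlatLocusScheme
import Groth.Agent.EquidimLib.AffineChart

/-!
# Universally open morphisms with geometrically reduced fibres: maximal points
-/

set_option autoImplicit false

universe u

open CategoryTheory Limits AlgebraicGeometry TopologicalSpace Topology

namespace EquidimLib

open UOpenLib

variable {X Y : Scheme.{u}} (f : X ⟶ Y)

/-- Geometric reducedness of the fibre at a point is stable under base change. -/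
theorem isGeomReducedAt_baseChange (x : X)
    (hred : FBase.IsGeomReducedAt (f.fiberToSpecResidueField (f.base x)) (f.asFiber x))
    {P Y' : Scheme.{u}} {p : P ⟶ X} {b : P ⟶ Y'} {g : Y' ⟶ Y} (sq : IsPullback p b f g)
    (x' : P) (hx' : p.base x' = x) :
    FBase.IsGeomReducedAt (b.fiberToSpecResidueField (b.base x')) (b.asFiber x') := by
  intro K _ _ x'' hx''
  let y' := b.base x'
  have hy : g.base y' = f.base x := by
    show g.base (b.base x') = f.base x
    rw [← hx', ← Scheme.Hom.comp_apply, ← sq.w, Scheme.Hom.comp_apply]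
  have key : ∀ (y : Y), y = f.base x → ∀ a : ↥(f.fiber y), (f.fiberι y).base a = x →
      FBase.IsGeomReducedAt (f.fiberToSpecResidueField y) a := by
    rintro _ rfl a ha
    obtain rfl : a = f.asFiber x :=
      (f.fiberι (f.base x)).isEmbedding.injective (by rw [ha, f.fiberι_asFiber])
    exact hred
  let π : b.fiber y' ⟶ f.fiber (g.base y') :=
    pullback.map _ _ _ _ p (Spec.map (g.residueFieldMap y')) g sq.w.symm (by simp)
  have h : IsPullback π (b.fiberToSpecResidueField y') (f.fiberToSpecResidueField (g.base y'))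
      (Spec.map (g.residueFieldMap y')) := isPullback_fiberToSpecResidueField_of_isPullback sq y'
  have hπ : π ≫ f.fiberι (g.base y') = b.fiberι y' ≫ p := pullback.lift_fst _ _ _
  have ha : (f.fiberι (g.base y')).base (π.base (b.asFiber x')) = x := by
    rw [← Scheme.Hom.comp_apply, hπ, Scheme.Hom.comp_apply, b.fiberι_asFiber, hx']
  letI : Algebra (IsLocalRing.ResidueField ↑(Y.presheaf.stalk (g.base y'))) K :=
    ((algebraMap (IsLocalRing.ResidueField ↑(Y'.presheaf.stalk y')) K).comp
      (g.residueFieldMap y').hom).toAlgebra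
  have sq' : IsPullback (FBase.bcπ (b.fiberToSpecResidueField y') K ≫ π)
      (FBase.bcStr (b.fiberToSpecResidueField y') K) (f.fiberToSpecResidueField (g.base y'))
      (Spec.map (CommRingCat.ofHom (algebraMap (IsLocalRing.ResidueField ↑(Y.presheaf.stalk (g.base y'))) K))) := by
    have := (IsPullback.of_hasPullback (b.fiberToSpecResidueField y') (Spec.map (CommRingCat.ofHom
      (algebraMap (IsLocalRing.ResidueField ↑(Y'.presheaf.stalk y')) K)))).paste_horiz h
    rw [← Spec.map_comp] at this
    exact this
  let e : FBase.bc (b.fiberToSpecResidueField y') K ≅ FBase.bc (f.fiberToSpecResidueField (g.base y')) K :=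
    sq'.isoPullback
  have he : (FBase.bcπ (f.fiberToSpecResidueField (g.base y')) K).base (e.hom.base x'') =
      π.base (b.asFiber x') := by
    have h1 := congrArg (fun φ : FBase.bc (b.fiberToSpecResidueField y') K ⟶ f.fiber (g.base y') ↦ φ.base x'')
      sq'.isoPullback_hom_fst
    simp only [Scheme.Hom.comp_apply] at h1
    rw [hx''] at h1
    exact h1
  haveI := key _ hy _ ha K _ he
  exact isReduced_of_injective (inv (e.hom.stalkMap x'')).hom
    (ConcreteCategory.bijective_of_isIso (inv (e.hom.stalkMap x''))).1

/-- Maximal points go to maximal points. -/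
theorem max_image_of_univOpen_geomReduced [IsLocallyNoetherian Y] [LocallyOfFiniteType f] (x : X)
    (hopen : ∀ z : X, f.base z = f.base x → z ⤳ x → IsFibreMax f z → EGA43.IsUnivOpenAt f z)
    (hred : FBase.IsGeomReducedAt (f.fiberToSpecResidueField (f.base x)) (f.asFiber x))
    {ζ : X} (hζ : closure {ζ} ∈ irreducibleComponents (X : Type u)) (hζx : ζ ⤳ x) :
    closure {f.base ζ} ∈ irreducibleComponents (Y : Type u) := by
  -- pass to the reduced base
  let J := Scheme.IdealSheafData.vanishingIdeal (⊤ : Closeds Y)
  let r := J.subschemeι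
  have : IsReduced J.subscheme := DevissLib.isReduced_vanishingIdeal' ⊤
  have hsurj : Surjective r := ⟨fun y ↦ by
    have h : y ∈ Set.range r.base := by
      rw [J.range_subschemeι, Scheme.IdealSheafData.coe_support_vanishingIdeal]
      trivial
    exact h⟩
  have : IsLocallyNoetherian J.subscheme := LocallyOfFiniteType.isLocallyNoetherian r
  let a := pullback.fst f r
  let f₁ := pullback.snd f r
  have ha : IsClosedImmersion a := MorphismProperty.pullback_fst _ _ inferInstance
  have has : Surjective a := MorphismProperty.pullback_fst _ _ hsurj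
  obtain ⟨x₁, rfl⟩ := has.surj x
  obtain ⟨ζ₁, rfl⟩ := has.surj ζ
  have hsp : ∀ {u v}, a.base u ⤳ a.base v → u ⤳ v := fun h ↦ a.isEmbedding.isInducing.specializes_iff.mp h
  have hζ₁ : closure {ζ₁} ∈ irreducibleComponents (↥(pullback f r) : Type u) :=
    FibDimLib.closure_mem_irreducibleComponents_of_max fun w hw ↦ a.isEmbedding.injective
      (FibDimLib.eq_of_specializes_of_closure_mem hζ (hw.map a.continuous))
  have hwa : ∀ v, f.base (a.base v) = r.base (f₁.base v) := fun v ↦ by
    rw [← Scheme.Hom.comp_apply, pullback.condition, Scheme.Hom.comp_apply]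
  have hflat : (f₁.stalkMap x₁).hom.Flat := by
    refine DvrFlatLib.flat_stalkMap_of_univOpen f₁ x₁ (fun z hzx hzmax ↦ ?_)
      (isGeomReducedAt_baseChange f _ hred (IsPullback.of_hasPullback f r) x₁ rfl) inferInstance
    let w := (f₁.fiberι (f₁.base x₁)).base z
    have hfw : f₁.base w = f₁.base x₁ := by
      have h := Set.mem_range_self (f := (f₁.fiberι (f₁.base x₁)).base) z
      rw [f₁.range_fiberι] at h
      exact h
    have hwx : w ⤳ x₁ := by
      have := (specializes_iff_mem_closure.mpr hzx).map (f₁.fiberι (f₁.base x₁)).continuous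
      rwa [f₁.fiberι_asFiber] at this
    have hwmax : IsFibreMax f₁ w := max_of_closure_mem f₁
      (FibDimLib.closure_mem_irreducibleComponents_of_max fun v hv ↦ hzmax v hv.mem_closure)
    exact IsUnivOpenAt.of_isPullback
      (hopen (a.base w) (by rw [hwa, hwa, hfw]) (hwx.map a.continuous)
        (isFibreMax_fst (IsPullback.of_hasPullback f r) hwmax))
      (IsPullback.of_hasPullback f r) w rfl
  have : IsLocallyNoetherian (pullback f r) := LocallyOfFiniteType.isLocallyNoetherian f₁
  obtain ⟨O, hO, hOflat⟩ := FlatLib.exists_open_flat f₁ hflat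
  haveI := hOflat
  have hζO : ζ₁ ∈ O := (hsp hζx).mem_open O.isOpen hO
  have h₁ : closure {f₁.base ζ₁} ∈ irreducibleComponents (↥J.subscheme : Type u) :=
    FibDimLib.closure_mem_irreducibleComponents_of_max fun η hη ↦ by
      obtain ⟨v, hv, rfl⟩ := Flat.generalizingMap (O.ι ≫ f₁) (a := ⟨ζ₁, hζO⟩) hη
      have := FibDimLib.eq_of_specializes_of_closure_mem hζ₁ (z := v.1) (hv.map continuous_subtype_val)
      show f₁.base v.1 = f₁.base ζ₁
      rw [this]
  rw [hwa]
  refine FibDimLib.closure_mem_irreducibleComponents_of_max fun η hη ↦ ?_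
  obtain ⟨η₁, rfl⟩ := hsurj.surj η
  rw [FibDimLib.eq_of_specializes_of_closure_mem h₁ (r.isEmbedding.isInducing.specializes_iff.mp hη)]

end EquidimLib
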