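import Mathlib
import Groth.Agent.EquidimLib.DimFormula
import Groth.Agent.DimIneqLib.EqualityLocal

/-!
# The dimension formula on components
-/

set_option autoImplicit false

universe u

open CategoryTheory Limits AlgebraicGeometry TopologicalSpace Topology

namespace EquidimLib

open UOpenLib DimIneqLib

theorem isUniversallyCatenary_atPrime_quotient {R S : Type u} [CommRing R] [CommRing S] (f : R →+* S)
    (hf : Function.Surjective f) (Q : Ideal S) [Q.IsPrime] (L : Type u) [CommRing L] [Algebra R L]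
    [IsLocalization.AtPrime L (Q.comap f)] (h : CAlg.IsUniversallyCatenary L) :
    CAlg.IsUniversallyCatenary (Localization.AtPrime Q) := by
  let ψ : L →+* Localization.AtPrime Q := (Localization.localRingHom (Q.comap f) Q f rfl).comp
    (IsLocalization.algEquiv (Q.comap f).primeCompl L (Localization.AtPrime (Q.comap f))).toRingEquiv.toRingHom
  have hψ : Function.Surjective ψ := (CatLib.localRingHom_surjective f hf Q).1.comp
    (IsLocalization.algEquiv (Q.comap f).primeCompl L (Localization.AtPrime (Q.comap f))).surjective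
  letI : Algebra L (Localization.AtPrime Q) := ψ.toAlgebra
  haveI : Algebra.FiniteType L (Localization.AtPrime Q) :=
    Algebra.FiniteType.of_surjective (Algebra.ofId L (Localization.AtPrime Q)) hψ
  exact CatLib.isUniversallyCatenary_of_finiteType L _ h

variable {X Y : Scheme.{u}}

/-- The dimension formula on the closure of a generization. -/
theorem dimBetween_add_fibreClosureDim_eq [IsLocallyNoetherian Y] (f : X ⟶ Y) [LocallyOfFiniteType f]
    {ξ x : X} (h : ξ ⤳ x) (hcat : CAlg.IsUniversallyCatenary (Y.presheaf.stalk (f.base x))) :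
    dimBetween ξ x + fibreClosureDim f x = dimBetween (f.base ξ) (f.base x) + fibreClosureDim f ξ := by
  obtain ⟨U, hU, hsU, -⟩ := exists_isAffineOpen_mem_and_subset (X := Y) (x := f x) (U := ⊤) trivial
  obtain ⟨V, hV, hxV, hVU⟩ := exists_isAffineOpen_mem_and_subset (X := X) (x := x) (U := f ⁻¹ᵁ U) hsU
  have hVU : V ≤ f ⁻¹ᵁ U := hVU
  haveI : IsNoetherianRing Γ(Y, U) := IsLocallyNoetherian.component_noetherian ⟨U, hU⟩
  letI : Algebra Γ(Y, U) Γ(X, V) := (f.appLE U V hVU).hom.toAlgebra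
  haveI hft : Algebra.FiniteType Γ(Y, U) Γ(X, V) := f.finiteType_appLE hU hV hVU
  have hξV : ξ ∈ V := h.mem_open V.isOpen hxV
  let P := (hV.primeIdealOf ⟨x, hxV⟩).asIdeal
  let p := (hU.primeIdealOf ⟨f x, hVU hxV⟩).asIdeal
  let Q := (hV.primeIdealOf ⟨ξ, hξV⟩).asIdeal
  let p₀ := (hU.primeIdealOf ⟨f ξ, hVU hξV⟩).asIdeal
  have hQP : Q ≤ P := (primeIdealOf_le_iff hV hξV hxV).mpr h
  have hover : P.comap (algebraMap Γ(Y, U) Γ(X, V)) = p :=
    congrArg PrimeSpectrum.asIdeal (IsAffineOpen.comap_primeIdealOf_appLE U hU V hV hVU hxV)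
  have hover₀ : Q.comap (algebraMap Γ(Y, U) Γ(X, V)) = p₀ :=
    congrArg PrimeSpectrum.asIdeal (IsAffineOpen.comap_primeIdealOf_appLE U hU V hV hVU hξV)
  haveI : Q.LiesOver p₀ := ⟨hover₀.symm⟩
  haveI : (P.map (Ideal.Quotient.mk Q)).IsPrime :=
    Ideal.map_isPrime_of_surjective Ideal.Quotient.mk_surjective (by rw [Ideal.mk_ker]; exact hQP)
  have hp₀p : p₀ ≤ p := by rw [← hover, ← hover₀]; exact Ideal.comap_mono hQP
  haveI : (p.map (Ideal.Quotient.mk p₀)).IsPrime :=
    Ideal.map_isPrime_of_surjective Ideal.Quotient.mk_surjective (by rw [Ideal.mk_ker]; exact hp₀p)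
  let P' := P.map (Ideal.Quotient.mk Q)
  let p' := p.map (Ideal.Quotient.mk p₀)
  have hP'c : P'.comap (Ideal.Quotient.mk Q) = P := by
    rw [Ideal.comap_map_of_surjective _ Ideal.Quotient.mk_surjective, ← RingHom.ker_eq_comap_bot, Ideal.mk_ker,
      sup_eq_left.mpr hQP]
  have hp'c : p'.comap (Ideal.Quotient.mk p₀) = p := by
    rw [Ideal.comap_map_of_surjective _ Ideal.Quotient.mk_surjective, ← RingHom.ker_eq_comap_bot, Ideal.mk_ker,
      sup_eq_left.mpr hp₀p]
  haveI : P'.LiesOver p' := ⟨Ideal.comap_injective_of_surjective _ Ideal.Quotient.mk_surjective (by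
    rw [hp'c, ← hover, ← hP'c, Ideal.under, Ideal.comap_comap, Ideal.comap_comap]
    rfl)⟩
  haveI : Algebra.FiniteType Γ(Y, U) (Γ(X, V) ⧸ Q) :=
    Algebra.FiniteType.of_surjective (Ideal.Quotient.mkₐ Γ(Y, U) Q) Ideal.Quotient.mk_surjective
  haveI : Algebra.FiniteType (Γ(Y, U) ⧸ p₀) (Γ(X, V) ⧸ Q) :=
    Algebra.FiniteType.of_restrictScalars_finiteType Γ(Y, U) _ _
  have hcat' : CAlg.IsUniversallyCatenary (Localization.AtPrime p') := by
    letI : Algebra Γ(Y, U) (Y.presheaf.stalk (f.base x)) := TopCat.Presheaf.algebra_section_stalk Y.presheaf (⟨f.base x, hVU hxV⟩ : U)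
    haveI : IsLocalization.AtPrime (Y.presheaf.stalk (f.base x)) p := hU.isLocalization_stalk ⟨f.base x, hVU hxV⟩
    haveI hq : (p'.comap (Ideal.Quotient.mk p₀)).IsPrime := inferInstance
    haveI : IsLocalization.AtPrime (Y.presheaf.stalk (f.base x)) (p'.comap (Ideal.Quotient.mk p₀)) := by
      simp only [hp'c]; infer_instance
    exact isUniversallyCatenary_atPrime_quotient (Ideal.Quotient.mk p₀) Ideal.Quotient.mk_surjective p' _ hcat
  have hmain := DimIneqLib.main_eq_localized (R := Γ(Y, U) ⧸ p₀) P' p' hcat'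
  have hx1 := ker_evaluation hV x hxV
  have hs1 := ker_evaluation hU (f x) (hVU hxV)
  have e1 : tr ((Γ(Y, U) ⧸ p₀) ⧸ p') ((Γ(X, V) ⧸ Q) ⧸ P') = trH (f.residueFieldMap x).hom := by
    refine (trH_eq P' p' (Ideal.Quotient.lift p₀ (Y.evaluation U (f x) (hVU hxV)).hom fun r hr => ?_)
      (Ideal.Quotient.lift Q (X.evaluation V x hxV).hom fun r hr => ?_) ?_ ?_ (hs1.2.lift p₀ _) (hx1.2.lift Q _) _ ?_).symm
    · rw [← RingHom.mem_ker, hs1.1]; exact hp₀p hr
    · rw [← RingHom.mem_ker, hx1.1]; exact hQP hr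
    · refine Ideal.comap_injective_of_surjective _ Ideal.Quotient.mk_surjective ?_
      rw [hp'c, RingHom.comap_ker, Ideal.Quotient.lift_comp_mk, hs1.1]
    · refine Ideal.comap_injective_of_surjective _ Ideal.Quotient.mk_surjective ?_
      rw [hP'c, RingHom.comap_ker, Ideal.Quotient.lift_comp_mk, hx1.1]
    · refine Ideal.Quotient.ringHom_ext (RingHom.ext fun r => ?_)
      exact RingHom.congr_fun (evaluation_appLE f hVU x hxV) r
  have hξ1 := ker_evaluation hV ξ hξV
  have hfξ1 := ker_evaluation hU (f ξ) (hVU hξV)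
  have e2 : tr (Γ(Y, U) ⧸ p₀) (Γ(X, V) ⧸ Q) = trH (f.residueFieldMap ξ).hom :=
    (trH_eq Q p₀ (Y.evaluation U (f ξ) (hVU hξV)).hom (X.evaluation V ξ hξV).hom hfξ1.1
      hξ1.1 hfξ1.2 hξ1.2 _ (evaluation_appLE f hVU ξ hξV)).symm
  rw [e1, e2] at hmain
  rw [fibreClosureDim_eq_trH, fibreClosureDim_eq_trH, ← height_map_eq_dimBetween hV hξV hxV h,
    ← height_map_eq_dimBetween hU (hVU hξV) (hVU hxV) (h.map f.continuous)]
  exact_mod_cast hmain

end EquidimLib
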