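import Mathlib
import Groth.Agent.EquidimLib.DimEquality
import Groth.Agent.EquidimLib.DimCriteria

/-!
# The dimension formula for equidimensional morphisms
-/

set_option autoImplicit false

universe u

open CategoryTheory Limits AlgebraicGeometry TopologicalSpace Topology

namespace EquidimLib

open UOpenLib

theorem withBot_add_natCast_cancel {a b : WithBot ℕ∞} {c : ℕ} (h : a + c = b + c) : a = b := by
  change a + ((c : ℕ∞) : WithBot ℕ∞) = b + ((c : ℕ∞) : WithBot ℕ∞) at h
  cases a with
  | bot => cases b with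
    | bot => rfl
    | coe b => rw [WithBot.bot_add, ← WithBot.coe_add] at h; exact absurd h WithBot.bot_ne_coe
  | coe a => cases b with
    | bot => rw [WithBot.bot_add, ← WithBot.coe_add] at h; exact absurd h WithBot.coe_ne_bot
    | coe b =>
      rw [← WithBot.coe_add, ← WithBot.coe_add, WithBot.coe_inj] at h
      rw [ENat.add_left_injective_of_ne_top (ENat.coe_ne_top c) h]

variable {X Y : Scheme.{u}} [IsLocallyNoetherian Y] (f : X ⟶ Y) [LocallyOfFiniteType f]

theorem stalkPt_comap (x : X) (P : PrimeSpectrum (X.presheaf.stalk x)) :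
    stalkPt (f.base x) (PrimeSpectrum.comap (f.stalkMap x).hom P) = f.base (stalkPt x P) :=
  congrArg (fun φ : Spec (X.presheaf.stalk x) ⟶ Y => φ.base P) (Scheme.SpecMap_stalkMap_fromSpecStalk f)

/-- The dimension formula on each component through the point. -/
theorem dimBetween_add_of_isEquidimAt (x : X) (h : EGA43.IsEquidimAt f x)
    (hcat : CAlg.IsUniversallyCatenary (Y.presheaf.stalk (f.base x))) {ξ : X}
    (hξ : closure {ξ} ∈ irreducibleComponents (X : Type u)) (hξx : ξ ⤳ x) :
    closure {f.base ξ} ∈ irreducibleComponents (Y : Type u) ∧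
      dimBetween ξ x + fibreClosureDim f x =
        dimBetween (f.base ξ) (f.base x) + FlatMor.fibreDimAt f x := by
  obtain ⟨e, U, hU⟩ := (isEquidimAt_iff f x).mp h
  refine ⟨(hU.max ξ (hξx.mem_open U.isOpen hU.mem) hξ).1, ?_⟩
  rw [dimBetween_add_fibreClosureDim_eq f hξx hcat, hU.fibreDimAt_eq f hU.mem,
    hU.dim ξ (hξx.mem_open U.isOpen hU.mem) (isFibreMax_of_max f hξ)]

theorem isEquidim_of_isEquidimAt_catenary (x : X) (h : EGA43.IsEquidimAt f x)
    (hcat : CAlg.IsUniversallyCatenary (Y.presheaf.stalk (f.base x)))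
    (hY : EGA4.IsEquidim (Y.presheaf.stalk (f.base x))) :
    EGA4.IsEquidim (X.presheaf.stalk x) ∧
      ringKrullDim (X.presheaf.stalk x) =
        ringKrullDim (Y.presheaf.stalk (f.base x)) +
          ringKrullDim ((f.fiber (f.base x)).presheaf.stalk (f.asFiber x)) := by
  have : IsLocallyNoetherian X := LocallyOfFiniteType.isLocallyNoetherian f
  obtain ⟨c, hc⟩ := exists_fibreClosureDim_eq_nat f x
  have hkey : ∀ ξ : X, closure {ξ} ∈ irreducibleComponents (X : Type u) → ξ ⤳ x →
      dimBetween ξ x = ringKrullDim (Y.presheaf.stalk (f.base x)) +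
          ringKrullDim ((f.fiber (f.base x)).presheaf.stalk (f.asFiber x)) := by
    intro ξ hξ hξx
    obtain ⟨h1, h2⟩ := dimBetween_add_of_isEquidimAt f x h hcat hξ hξx
    rw [(isEquidim_stalk_iff (f.base x)).mp hY _ h1 (hξx.map f.continuous), fibreDimAt_eq_add_stalk,
      add_comm (fibreClosureDim f x) (ringKrullDim _), ← add_assoc, hc] at h2
    exact withBot_add_natCast_cancel h2
  obtain ⟨ξ', hξ', hξ'x, hd'⟩ := exists_max_dimBetween x
  refine ⟨(isEquidim_stalk_iff x).mpr fun ξ hξ hξx ↦ ?_, ?_⟩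
  · rw [← hd', hkey ξ hξ hξx, hkey ξ' hξ' hξ'x]
  · rw [← hd', hkey ξ' hξ' hξ'x]

/-- The dimension formula at a minimal prime. -/
theorem quotient_minimalPrime_of_isEquidimAt (x : X) (h : EGA43.IsEquidimAt f x)
    (hcat : CAlg.IsUniversallyCatenary (Y.presheaf.stalk (f.base x)))
    (P : PrimeSpectrum (X.presheaf.stalk x)) (hP : P.asIdeal ∈ minimalPrimes (X.presheaf.stalk x)) :
    ringKrullDim (X.presheaf.stalk x ⧸ P.asIdeal) + fibreClosureDim f x =
      ringKrullDim (Y.presheaf.stalk (f.base x) ⧸ P.asIdeal.comap (f.stalkMap x).hom) +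
        FlatMor.fibreDimAt f x := by
  have hξ : closure {stalkPt x P} ∈ irreducibleComponents (X : Type u) := by
    refine FibDimLib.closure_mem_irreducibleComponents_of_max fun w hw ↦ ?_
    obtain ⟨q, rfl⟩ := exists_stalkPt (hw.trans (stalkPt_specializes x P))
    congr 1
    exact le_antisymm (le_of_stalkPt hw) (hP.2 ⟨q.isPrime, bot_le⟩ (le_of_stalkPt hw))
  have e := (dimBetween_add_of_isEquidimAt f x h hcat hξ (stalkPt_specializes x P)).2
  rw [← stalk_quotient_dim_eq, ← stalkPt_comap f x P, ← stalk_quotient_dim_eq] at e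
  exact e

end EquidimLib
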