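import Mathlib
import Groth.Agent.EquidimLib.DimEquidim
import Groth.Agent.DimIneqLib.StalkFibre

/-!
# Dimension conditions along a fibre over an irreducible base
-/

set_option autoImplicit false

universe u

open CategoryTheory Limits AlgebraicGeometry TopologicalSpace Topology

namespace EquidimLib

open UOpenLib

variable {X Y : Scheme.{u}} [IrreducibleSpace Y] [IsLocallyNoetherian Y] (f : X ⟶ Y) [LocallyOfFiniteType f]

theorem dimBetween_genericPoint (y : Y) :
    dimBetween (genericPoint Y) y = ringKrullDim (Y.presheaf.stalk y) := by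
  obtain ⟨η, hη, -, hd⟩ := exists_max_dimBetween y
  rw [← hd]
  congr 1
  exact FibDimLib.eq_of_specializes_of_closure_mem hη
    (genericPoint_specializes η)

theorem eq_genericPoint_of_dimBetween (η y : Y) (hη : η ⤳ y)
    (h : dimBetween η y = ringKrullDim (Y.presheaf.stalk y)) : η = genericPoint Y := by
  by_contra hne
  have h1 := one_le_dimBetween (genericPoint_specializes η) (Ne.symm hne)
  have h2 := dimBetween_add_le (genericPoint_specializes η) hη
  obtain ⟨n, hn⟩ := exists_stalk_dim_eq_nat y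
  obtain ⟨k, hk⟩ := exists_dimBetween_eq_nat (genericPoint_specializes η)
  rw [h, hn, hk, dimBetween_genericPoint, hn] at h2
  rw [hk] at h1
  have h1' : 1 ≤ k := by exact_mod_cast h1
  have h2' : k + n ≤ n := by exact_mod_cast h2
  omega

theorem component_of_dim_eq (z : X)
    (h0 : ringKrullDim ((f.fiber (f.base z)).presheaf.stalk (f.asFiber z)) = 0)
    (hdim : ringKrullDim (X.presheaf.stalk z) = ringKrullDim (Y.presheaf.stalk (f.base z))) :
    ∃ ξ : X, closure {ξ} ∈ irreducibleComponents (X : Type u) ∧ ξ ⤳ z ∧ f.base ξ = genericPoint Y ∧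
      fibreClosureDim f ξ = FlatMor.fibreDimAt f z ∧ dimBetween ξ z = ringKrullDim (X.presheaf.stalk z) := by
  have : IsLocallyNoetherian X := LocallyOfFiniteType.isLocallyNoetherian f
  obtain ⟨ξ, hξ, hξz, hd⟩ := exists_max_dimBetween z
  obtain ⟨d, hdn⟩ := exists_stalk_dim_eq_nat (f.base z)
  obtain ⟨c, hc⟩ := exists_fibreClosureDim_eq_nat f z
  obtain ⟨c', hc'⟩ := exists_fibreClosureDim_eq_nat f ξ
  obtain ⟨k, hk⟩ := exists_dimBetween_eq_nat (hξz.map f.continuous)
  have hfd : FlatMor.fibreDimAt f z = c := by rw [fibreDimAt_eq_add_stalk, h0, add_zero, hc]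
  have h1 := dimBetween_add_fibreClosureDim_le f hξz
  have h2 := fibreClosureDim_le_fibreDimAt f hξz
  have h3 := dimBetween_le_stalk (f.base ξ) (f.base z)
  rw [hd, hdim, hdn, hc, hk, hc'] at h1
  rw [hc', hfd] at h2
  rw [hk, hdn] at h3
  have h1' : d + c ≤ k + c' := by exact_mod_cast h1
  have h2' : c' ≤ c := by exact_mod_cast h2
  have h3' : k ≤ d := by exact_mod_cast h3
  refine ⟨ξ, hξ, hξz, eq_genericPoint_of_dimBetween _ _ (hξz.map f.continuous) ?_, ?_, hd⟩
  · rw [hk, hdn]; exact_mod_cast (show k = d by omega)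
  · rw [hc', hfd]; exact_mod_cast (show c' = c by omega)

theorem dim_eq_of_component (z : X)
    (h0 : ringKrullDim ((f.fiber (f.base z)).presheaf.stalk (f.asFiber z)) = 0)
    (hcat : CAlg.IsUniversallyCatenary (Y.presheaf.stalk (f.base z))) {X' : Set X}
    (hX' : X' ∈ irreducibleComponents (X : Type u)) (hz : z ∈ X')
    (hd : topologicalKrullDim ↥(X' ∩ f.base ⁻¹' {genericPoint Y}) = FlatMor.fibreDimAt f z) :
    ringKrullDim (X.presheaf.stalk z) = ringKrullDim (Y.presheaf.stalk (f.base z)) := by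
  obtain ⟨ξ, hξ⟩ := QuasiSober.sober hX'.1 (isClosed_of_mem_irreducibleComponents _ hX')
  obtain rfl : X' = closure {ξ} := hξ.def.symm
  have hξz : ξ ⤳ z := specializes_iff_mem_closure.mpr hz
  obtain ⟨c, hc⟩ := exists_fibreClosureDim_eq_nat f z
  have hfd : FlatMor.fibreDimAt f z = c := by rw [fibreDimAt_eq_add_stalk, h0, add_zero, hc]
  have hfξ : f.base ξ = genericPoint Y := by
    rcases Set.eq_empty_or_nonempty (closure {ξ} ∩ f.base ⁻¹' {genericPoint Y}) with he | ⟨v, hv, hv'⟩
    · have : IsEmpty (IrreducibleCloseds ↥(closure {ξ} ∩ f.base ⁻¹' {genericPoint Y})) :=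
        ⟨fun T => T.isIrreducible.nonempty.elim fun a _ => (he ▸ a.2 : a.1 ∈ (∅ : Set X)).elim⟩
      rw [topologicalKrullDim, Order.krullDim_eq_bot, hfd] at hd
      exact absurd hd WithBot.bot_ne_coe
    · exact (((hv' : f.base v = _) ▸ (specializes_iff_mem_closure.mpr hv).map f.continuous).antisymm
        (genericPoint_specializes _)).eq
  rw [← hfξ, ← fibreClosureDim_eq_inter, hfd] at hd
  have h1 := dimBetween_add_fibreClosureDim_eq f hξz hcat
  rw [hfξ, dimBetween_genericPoint, hd, hc] at h1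
  refine le_antisymm ?_ ((withBot_add_natCast_cancel h1).ge.trans (dimBetween_le_stalk _ _))
  exact (DimIneqLib.ringKrullDim_stalk_le_add_fibre f z).trans (by rw [h0, add_zero])

/-- From the generic points of the fibre to all its points. -/
theorem dim_eq_add_of_forall_max (x : X) (hcat : CAlg.IsUniversallyCatenary (Y.presheaf.stalk (f.base x)))
    (hb : ∀ z : X, f.base z = f.base x → ringKrullDim ((f.fiber (f.base z)).presheaf.stalk (f.asFiber z)) = 0 →
      ringKrullDim (X.presheaf.stalk z) = ringKrullDim (Y.presheaf.stalk (f.base z))) :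
    ringKrullDim (X.presheaf.stalk x) = ringKrullDim (Y.presheaf.stalk (f.base x)) +
      ringKrullDim ((f.fiber (f.base x)).presheaf.stalk (f.asFiber x)) := by
  have : IsLocallyNoetherian X := LocallyOfFiniteType.isLocallyNoetherian f
  refine le_antisymm (DimIneqLib.ringKrullDim_stalk_le_add_fibre f x) ?_
  obtain ⟨z, hz, hzx, hzmax, hzd⟩ := exists_max_fibreDimAt f x
  obtain ⟨c, hc⟩ := exists_fibreClosureDim_eq_nat f z
  obtain ⟨b, hb'⟩ := exists_fibreClosureDim_eq_nat f x
  have h0 : ringKrullDim ((f.fiber (f.base z)).presheaf.stalk (f.asFiber z)) = 0 := by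
    have h := fibreDimAt_eq_add_stalk f z
    rw [fibreDimAt_eq_of_max f hzmax, hc, add_comm] at h
    refine (withBot_add_natCast_cancel (c := c) ?_).symm
    rwa [zero_add]
  obtain ⟨ξ, hξ, hξz, hη, he, hd⟩ := component_of_dim_eq f z h0 (hb z hz h0)
  rw [fibreDimAt_eq_of_max f hzmax, hzd, fibreDimAt_eq_add_stalk] at he
  have h1 := dimBetween_add_fibreClosureDim_eq f (hξz.trans hzx) hcat
  rw [hη, dimBetween_genericPoint, he, hb', add_comm (b : WithBot ℕ∞) (ringKrullDim _), ← add_assoc] at h1
  exact (withBot_add_natCast_cancel h1).ge.trans (dimBetween_le_stalk _ _)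

end EquidimLib
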