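import Mathlib
import Groth.Agent.EquidimLib.DimCriteria
import Groth.Agent.FibDimLib.TopLocalDim

/-!
# Closed subschemes and fibre dimensions
-/

set_option autoImplicit false

universe u

open CategoryTheory Limits AlgebraicGeometry TopologicalSpace Topology

namespace EquidimLib

open UOpenLib

variable {X Y : Scheme.{u}} (f : X ⟶ Y)

/-- Fibres of a closed subscheme inside the space. -/
theorem fibreDimAt_closedImmersion {Z : Scheme.{u}} (j : Z ⟶ X) [IsClosedImmersion j] (w : Z) (x : X)
    (hw : j.base w = x) {T : Set X} (hT : Set.range j.base = T) (hx : x ∈ T) :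
    FlatMor.fibreDimAt (j ≫ f) w =
      FlatMor.localDim ↥(T ∩ f.base ⁻¹' {f.base x}) ⟨x, ⟨hx, rfl⟩⟩ := by
  subst hw hT
  let a := (j ≫ f).fiberHomeo ((j ≫ f).base w)
  let b : ↥((j ≫ f).base ⁻¹' {(j ≫ f).base w}) ≃ₜ ↥(Set.range j.base ∩ f.base ⁻¹' {f.base (j.base w)}) :=
    (j.isEmbedding.homeomorphImage _).trans (Homeomorph.setCongr (by
      rw [show (j ≫ f).base ⁻¹' {(j ≫ f).base w} = j.base ⁻¹' (f.base ⁻¹' {f.base (j.base w)}) from rfl,
        Set.image_preimage_eq_inter_range, Set.inter_comm]))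
  let e := a.trans b
  have he : e ((j ≫ f).asFiber w) = ⟨j.base w, ⟨hx, rfl⟩⟩ := by
    apply Subtype.ext
    show j.base ((a ((j ≫ f).asFiber w)).1) = j.base w
    congr 1
    exact ((j ≫ f).fiberHomeo_apply ((j ≫ f).base w) ((j ≫ f).asFiber w)).trans ((j ≫ f).fiberι_asFiber w)
  refine le_antisymm ?_ ?_
  · rw [← he]
    exact FibDimLib.localDim_le_of_isInducing e.isInducing _
  · refine le_trans (FibDimLib.localDim_le_of_isInducing e.symm.isInducing _) (le_of_eq ?_)
    rw [← he, e.symm_apply_apply]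
    rfl

variable [LocallyOfFiniteType f]

/-- An irreducible closed subset of small codimension and small fibre dominates and is
equidimensional. -/
theorem codim_subvariety [IrreducibleSpace Y] [IsLocallyNoetherian Y] (x : X) (hf : EGA43.IsEquidimAt f x)
    {Z : Scheme.{u}} (j : Z ⟶ X) [IsClosedImmersion j] [IrreducibleSpace Z] (w : Z) (hw : j.base w = x)
    (n : ℕ) (hcodim : ringKrullDim (X.presheaf.stalk (j.base (genericPoint Z))) ≤ n)
    (hdim : FlatMor.fibreDimAt (j ≫ f) w + n ≤ FlatMor.fibreDimAt f x) :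
    ringKrullDim (X.presheaf.stalk (j.base (genericPoint Z))) = n ∧
      FlatMor.fibreDimAt (j ≫ f) w + n = FlatMor.fibreDimAt f x ∧ EGA43.IsEquidimAt (j ≫ f) w := by
  have : IsLocallyNoetherian X := LocallyOfFiniteType.isLocallyNoetherian f
  have : IsLocallyNoetherian Z := LocallyOfFiniteType.isLocallyNoetherian j
  let x' := j.base (genericPoint Z)
  have hx'x : x' ⤳ x := hw ▸ (genericPoint_specializes w).map j.continuous
  obtain ⟨e, U, hU⟩ := (isEquidimAt_iff f x).mp hf
  have hd := hU.fibreDimAt_eq f hU.mem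
  obtain ⟨N, hN⟩ := exists_stalk_dim_eq_nat x'
  obtain ⟨c, hc⟩ := exists_fibreClosureDim_eq_nat f x'
  obtain ⟨e', he'⟩ := exists_fibreDimAt_eq_nat (j ≫ f) w
  have hc' : c ≤ e' := by
    have := fibreClosureDim_le_fibreDimAt (j ≫ f) (genericPoint_specializes w)
    rw [fibreClosureDim_closedImmersion, hc, he'] at this
    exact_mod_cast this
  have hNn : N ≤ n := by
    have : (N : WithBot ℕ∞) ≤ n := hN ▸ hcodim
    exact_mod_cast this
  have he'e : e' + n ≤ e := by
    rw [he', hd] at hdim
    exact_mod_cast hdim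
  -- the component of the fibre through the generic point
  obtain ⟨v, hv, hvx', hvmax, hvd⟩ := exists_max_fibreDimAt f x'
  rw [hU.fibreDimAt_eq f (hx'x.mem_open U.isOpen hU.mem)] at hvd
  obtain ⟨ξ, hξ, hξv⟩ := DvrDomLib.exists_generic_specializes v
  have hξη : f.base ξ = genericPoint Y := by
    have h1 := (hU.max ξ ((hξv.trans (hvx'.trans hx'x)).mem_open U.isOpen hU.mem) hξ).1
    exact (FibDimLib.eq_of_specializes_of_closure_mem h1 (genericPoint_specializes _)).symm
  obtain ⟨k, hk⟩ := exists_dimBetween_eq_nat hvx'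
  obtain ⟨l, hl⟩ := exists_dimBetween_eq_nat hξv
  have h1 : e = c + k := by
    have := fibreClosureDim_eq_add f hvx' hv
    rw [hvd, hc, hk] at this
    exact_mod_cast this
  have h2 : l + k ≤ N := by
    have := (dimBetween_add_le hξv hvx').trans (dimBetween_le_stalk ξ x')
    rw [hl, hk, hN] at this
    exact_mod_cast this
  have hvξ : ξ = v := by
    by_contra hne
    have := one_le_dimBetween hξv hne
    rw [hl] at this
    have : 1 ≤ l := by exact_mod_cast this
    omega
  have hN' : N = n := by omega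
  have hce : c + n = e := by omega
  refine ⟨by rw [hN, hN'], by rw [he', hd]; exact_mod_cast (show e' + n = e by omega), ?_⟩
  obtain ⟨U₁, hwU₁, hle⟩ := exists_nhd_fibreClosureDim_le (j ≫ f) w (e := e') he'
  refine isEquidimAt_of_bounds (j ≫ f) w e' U₁ hwU₁ hle fun ζ _ hζ ↦ ?_
  obtain rfl : ζ = genericPoint Z :=
    (FibDimLib.eq_of_specializes_of_closure_mem hζ (genericPoint_specializes ζ)).symm
  refine ⟨?_, ?_⟩
  · rw [Scheme.Hom.comp_apply, show f.base x' = genericPoint Y from hv.symm.trans (hvξ ▸ hξη)]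
    exact closure_genericPoint_mem
  · rw [fibreClosureDim_closedImmersion, hc]
    exact_mod_cast (show e' ≤ c by omega)

end EquidimLib
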