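import Mathlib
import Groth.Agent.EquidimLib.DimIrreducible
import Groth.Agent.EquidimLib.Subvariety
import Groth.Agent.EquidimLib.FlatComponents
import Groth.Agent.FibDimLib.FieldExt
import Groth.Agent.S3404

/-!
# Components through points of openness over an irreducible base
-/

set_option autoImplicit false

universe u

open CategoryTheory Limits AlgebraicGeometry TopologicalSpace Topology

namespace EquidimLib

open UOpenLib

section Order

attribute [local instance] specializationOrder

/-- The dimension is bounded by that of the irreducible components. -/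
theorem topologicalKrullDim_le_of_components {A : Type*} [TopologicalSpace A] [T0Space A] [QuasiSober A]
    {a : WithBot ℕ∞} (h : ∀ Z ∈ irreducibleComponents A, topologicalKrullDim ↥Z ≤ a) :
    topologicalKrullDim A ≤ a := by
  rw [FibDimLib.topologicalKrullDim_eq_krullDim']
  refine iSup_le fun l => ?_
  refine le_trans ?_ (h _ (irreducibleComponent_mem_irreducibleComponents l.last))
  haveI : QuasiSober ↥(irreducibleComponent l.last) :=
    (isClosed_irreducibleComponent (x := l.last)).isClosedEmbedding_subtypeVal.quasiSober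
  rw [FibDimLib.topologicalKrullDim_eq_krullDim']
  have hmem : ∀ j, l j ∈ irreducibleComponent l.last := fun j =>
    Specializes.mem_closed (show l.last ⤳ l j from l.monotone (Fin.le_last j)) isClosed_irreducibleComponent
      mem_irreducibleComponent
  refine le_iSup_of_le (@LTSeries.mk _ (specializationOrder ↥(irreducibleComponent l.last)).toPreorder l.length
    (fun j => (⟨l j, hmem j⟩ : irreducibleComponent l.last)) fun a b hab =>
    @lt_of_le_of_ne ↥(irreducibleComponent l.last) (specializationOrder _) _ _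
      ((IsInducing.subtypeVal.specializes_iff).mp (show l b ⤳ l a from (l.strictMono hab).le))
      (fun e => (l.strictMono hab).ne (congrArg Subtype.val e))) le_rfl

end Order

variable {X Y : Scheme.{u}} [IsLocallyNoetherian Y] (f : X ⟶ Y) [LocallyOfFiniteType f]

/-- At a point of openness, maximal in its fibre, passes a component dominating the base with the same
fibre dimension. -/
theorem exists_component_of_open [IrreducibleSpace Y] {z : X} (hmax : IsFibreMax f z)
    (hopen : EGA43.IsOpenAt f.base z) :
    ∃ ξ : X, closure {ξ} ∈ irreducibleComponents (X : Type u) ∧ ξ ⤳ z ∧ f.base ξ = genericPoint Y ∧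
      fibreClosureDim f ξ = fibreClosureDim f z := by
  have : IsLocallyNoetherian X := LocallyOfFiniteType.isLocallyNoetherian f
  obtain ⟨c, hc⟩ := exists_fibreClosureDim_eq_nat f z
  have h0 : ringKrullDim ((f.fiber (f.base z)).presheaf.stalk (f.asFiber z)) = 0 := by
    have h := fibreDimAt_eq_add_stalk f z
    rw [fibreDimAt_eq_of_max f hmax, hc, add_comm] at h
    refine (withBot_add_natCast_cancel (c := c) ?_).symm
    rwa [zero_add]
  have hdim : ringKrullDim (X.presheaf.stalk z) = ringKrullDim (Y.presheaf.stalk (f.base z)) := by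
    refine le_antisymm ((DimIneqLib.ringKrullDim_stalk_le_add_fibre f z).trans (by rw [h0, add_zero])) ?_
    exact dim_base_le_stalk f z hmax ((Groth.Agent.S3404.result f z).1 hopen)
  obtain ⟨ξ, hξ, hξz, hη, he, -⟩ := component_of_dim_eq f z h0 hdim
  exact ⟨ξ, hξ, hξz, hη, he.trans (fibreDimAt_eq_of_max f hmax)⟩

omit [IsLocallyNoetherian Y] [LocallyOfFiniteType f] in
/-- A maximal irreducible subset of a fibre is the trace of the closure of a point maximal in the fibre. -/
theorem exists_generic_of_fibre_component {y : Y} {Z : Set X} (hZy : Z ⊆ f.base ⁻¹' {y}) (hZ : IsIrreducible Z)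
    (hZmax : ∀ Z' : Set X, IsIrreducible Z' → Z' ⊆ f.base ⁻¹' {y} → Z ⊆ Z' → Z' = Z) :
    ∃ z ∈ Z, f.base z = y ∧ IsFibreMax f z ∧ Z = closure {z} ∩ f.base ⁻¹' {y} := by
  let ι := f.fiberι y
  have hrange : ∀ w, f.base (ι.base w) = y := fun w => by
    have h := Set.mem_range_self (f := ι.base) w
    rw [f.range_fiberι] at h
    exact h
  have hsub : ∀ z ∈ Z, z ∈ Set.range ι.base := fun z hz => by rw [f.range_fiberι]; exact hZy hz
  have hT : IsIrreducible (ι.base ⁻¹' Z) := by
    refine ⟨?_, fun U V hU hV ⟨a, haT, haU⟩ ⟨b, hbT, hbV⟩ => ?_⟩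
    · obtain ⟨z, hz⟩ := hZ.nonempty
      obtain ⟨w, rfl⟩ := hsub z hz
      exact ⟨w, hz⟩
    · obtain ⟨U', hU', rfl⟩ := ι.isEmbedding.isInducing.isOpen_iff.mp hU
      obtain ⟨V', hV', rfl⟩ := ι.isEmbedding.isInducing.isOpen_iff.mp hV
      obtain ⟨z, hz, hzU, hzV⟩ := hZ.2 U' V' hU' hV' ⟨_, haT, haU⟩ ⟨_, hbT, hbV⟩
      obtain ⟨w, rfl⟩ := hsub z hz
      exact ⟨w, hz, hzU, hzV⟩
  obtain ⟨w, hw⟩ := QuasiSober.sober hT.closure isClosed_closure
  have heq : ι.base '' closure (ι.base ⁻¹' Z) = Z := hZmax _ (hT.closure.image _ ι.continuous.continuousOn)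
    (by rintro _ ⟨v, -, rfl⟩; exact hrange v)
    (fun z hz => by obtain ⟨v, rfl⟩ := hsub z hz; exact ⟨v, subset_closure hz, rfl⟩)
  have hzZ : ι.base w ∈ Z := heq.subset ⟨w, hw.mem, rfl⟩
  have hle : Z ⊆ closure {ι.base w} := fun z hz => by
    obtain ⟨v, hv, rfl⟩ := heq.superset hz
    exact ((hw.specializes hv).map ι.continuous).mem_closure
  have hcl : Z = closure {ι.base w} ∩ f.base ⁻¹' {y} := by
    refine (hZmax (closure {ι.base w} ∩ f.base ⁻¹' {y}) ⟨⟨_, subset_closure rfl, hrange w⟩, fun U V hU hV ⟨a, ha, haU⟩ ⟨b, hb, hbV⟩ => ?_⟩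
      Set.inter_subset_right fun z hz => ⟨hle hz, hZy hz⟩).symm
    exact ⟨ι.base w, ⟨subset_closure rfl, hrange w⟩, (specializes_iff_mem_closure.mpr ha.1).mem_open hU haU,
      (specializes_iff_mem_closure.mpr hb.1).mem_open hV hbV⟩
  refine ⟨_, hzZ, hrange w, fun z' hz' hsp => ?_, hcl⟩
  have h1 : closure {z'} ∩ f.base ⁻¹' {y} = Z := by
    refine hZmax (closure {z'} ∩ f.base ⁻¹' {y}) ⟨⟨z', subset_closure rfl, hz'.trans (hrange w)⟩, fun U V hU hV ⟨a, ha, haU⟩ ⟨b, hb, hbV⟩ => ?_⟩
      Set.inter_subset_right fun z hz => ⟨?_, hZy hz⟩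
    · exact ⟨z', ⟨subset_closure rfl, hz'.trans (hrange w)⟩, (specializes_iff_mem_closure.mpr ha.1).mem_open hU haU,
        (specializes_iff_mem_closure.mpr hb.1).mem_open hV hbV⟩
    · exact ((specializes_iff_mem_closure.mpr hsp).trans (specializes_iff_mem_closure.mpr (hle hz))).mem_closure
  have h2 : z' ∈ closure {ι.base w} := hle (h1.subset ⟨subset_closure rfl, hz'.trans (hrange w)⟩)
  exact ((specializes_iff_mem_closure.mpr hsp).antisymm (specializes_iff_mem_closure.mpr h2)).eq

/-- The fibre of a component has the expected local dimension at a point maximal in the fibre. -/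
theorem localDim_inter_of_max {z : X} (hmax : IsFibreMax f z) {T : Set X} (hT : IsClosed T) (hz : z ∈ T) :
    FlatMor.localDim ↥(T ∩ f.base ⁻¹' {f.base z}) ⟨z, ⟨hz, rfl⟩⟩ = fibreClosureDim f z := by
  let T' : Closeds X := ⟨T, hT⟩
  let j := (Scheme.IdealSheafData.vanishingIdeal T').subschemeι
  have hr : Set.range j.base = T := by
    rw [Scheme.IdealSheafData.range_subschemeι]
    exact Scheme.IdealSheafData.coe_support_vanishingIdeal _
  obtain ⟨w, hw⟩ : z ∈ Set.range j.base := by rw [hr]; exact hz
  rw [← fibreDimAt_closedImmersion f j w z hw hr hz]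
  have hwmax : IsFibreMax (j ≫ f) w := fun w' hw' hsp => by
    refine j.isEmbedding.injective ?_
    rw [hw]
    refine hmax _ (hw'.trans (congrArg f.base hw)) ?_
    rw [← hw]
    exact ((specializes_iff_mem_closure.mpr hsp).map j.continuous).mem_closure
  rw [fibreDimAt_eq_of_max (j ≫ f) hwmax, fibreClosureDim_closedImmersion j f w, hw]

end EquidimLib

namespace EquidimLib

open UOpenLib

variable {X Y : Scheme.{u}} [IsLocallyNoetherian Y] (f : X ⟶ Y) [LocallyOfFiniteType f]

omit [IsLocallyNoetherian Y] in
/-- Closures in fibres do not see an injective map behind. -/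
theorem fibreClosureDim_comp_injective {P T : Scheme.{u}} (g : P ⟶ T) [LocallyOfFiniteType g] (j : T ⟶ Y)
    [LocallyOfFiniteType j] (hj : Function.Injective j.base) (w : P) :
    fibreClosureDim (g ≫ j) w = fibreClosureDim g w := by
  rw [fibreClosureDim_eq_inter, fibreClosureDim_eq_inter]
  have h : (g ≫ j).base ⁻¹' {(g ≫ j).base w} = g.base ⁻¹' {g.base w} := Set.ext fun v => hj.eq_iff
  rw [h]

/-- Openness at a point maximal in its fibre lifts generizations to points maximal in their fibres, with
the same dimension. -/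
theorem exists_generization_dim {z : X} (hmax : IsFibreMax f z) (hopen : EGA43.IsOpenAt f.base z) {y' : Y}
    (hy' : y' ⤳ f.base z) :
    ∃ x' : X, x' ⤳ z ∧ f.base x' = y' ∧ IsFibreMax f x' ∧ fibreClosureDim f x' = fibreClosureDim f z := by
  obtain ⟨T, j, hj, hT, hr⟩ := DevissLib.exists_integral_closed (isClosed_closure (s := ({y'} : Set Y)))
    isIrreducible_singleton.closure
  haveI := hj
  haveI := hT
  haveI : IsLocallyNoetherian T := LocallyOfFiniteType.isLocallyNoetherian j
  let p := pullback.fst f j
  let g := pullback.snd f j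
  haveI : IsClosedImmersion p := inferInstance
  obtain ⟨t, ht⟩ : f.base z ∈ Set.range j.base := by rw [hr]; exact hy'.mem_closure
  obtain ⟨w, hw1, hw2⟩ := Scheme.Pullback.exists_preimage_pullback (f := f) (g := j) z t ht.symm
  have hinj : Function.Injective j.base := j.isEmbedding.injective
  have hsq : ∀ v, f.base (p.base v) = j.base (g.base v) := fun v => by
    rw [← Scheme.Hom.comp_apply, ← Scheme.Hom.comp_apply, pullback.condition]
  have hgmax : IsFibreMax g w := fun v hv hsp => by
    refine p.isEmbedding.injective ?_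
    rw [show p.base w = z from hw1]
    refine hmax _ ?_ ?_
    · rw [hsq, hv, show g.base w = t from hw2, ht]
    · rw [← hw1]
      exact ((specializes_iff_mem_closure.mpr hsp).map p.continuous).mem_closure
  have hgopen : EGA43.IsOpenAt g.base w := by
    intro U hU
    rw [p.isEmbedding.nhds_eq_comap, Filter.mem_comap] at hU
    obtain ⟨U', hU', hUU'⟩ := hU
    rw [show p.base w = z from hw1] at hU'
    have h1 := j.continuous.continuousAt.preimage_mem_nhds (t := f.base '' U') (x := g.base w) (by
      rw [show g.base w = t from hw2, ht]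
      exact hopen U' hU')
    refine Filter.mem_of_superset h1 ?_
    rintro t' ⟨a, ha, hat⟩
    obtain ⟨v, hv1, hv2⟩ := Scheme.Pullback.exists_preimage_pullback (f := f) (g := j) a t' hat
    exact ⟨v, hUU' (show p.base v ∈ U' from hv1.symm ▸ ha), hv2⟩
  obtain ⟨ξ, hξ, hξw, hη, hd⟩ := exists_component_of_open g hgmax hgopen
  have hgen : j.base (genericPoint T) = y' := by
    have h := (genericPoint_spec T).image j.continuous
    rw [Set.image_univ, hr, closure_closure] at h
    exact h.eq isGenericPoint_closure
  have hfξ : f.base (p.base ξ) = y' := by rw [hsq, hη, hgen]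
  refine ⟨p.base ξ, hw1 ▸ hξw.map p.continuous, hfξ, fun x'' hx'' hsp => ?_, ?_⟩
  · obtain ⟨v, hv1, hv2⟩ := Scheme.Pullback.exists_preimage_pullback (f := f) (g := j) x'' (genericPoint T)
      (by rw [hgen, hx'', hfξ])
    rw [← hv1]
    refine congrArg p.base (FibDimLib.eq_of_specializes_of_closure_mem hξ ?_)
    refine p.isEmbedding.isInducing.specializes_iff.mp ?_
    rw [show p.base v = x'' from hv1]
    exact specializes_iff_mem_closure.mpr hsp
  · rw [← hw1, ← fibreClosureDim_closedImmersion p f ξ, ← fibreClosureDim_closedImmersion p f w]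
    have e : ∀ v, fibreClosureDim (p ≫ f) v = fibreClosureDim g v := fun v => by
      have h := fibreClosureDim_comp_injective g j hinj v
      rw [← h]
      congr 1
      exact pullback.condition
    rw [e, e, hd]

end EquidimLib

namespace EquidimLib

open UOpenLib

variable {X Y : Scheme.{u}} [IsLocallyNoetherian Y] (f : X ⟶ Y) [LocallyOfFiniteType f]

/-- Openness along a fibre gives, at a generization of the base point, points with fibre dimension at
least any given one along the fibre. -/
theorem exists_generization_ge (y : Y) (h : ∀ x : X, f.base x = y → EGA43.IsOpenAt f.base x) (x : X)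
    (hx : f.base x = y) {y' : Y} (hy' : y' ⤳ y) :
    ∃ x' : X, f.base x' = y' ∧ FlatMor.fibreDimAt f x ≤ fibreClosureDim f x' := by
  obtain ⟨z, hz, -, hmax, hd⟩ := exists_max_fibreDimAt f x
  obtain ⟨x', -, hx', -, hd'⟩ := exists_generization_dim f (fun z' hz' hsp => hmax z' hz' hsp)
    (h z (hz.trans hx)) (hy'.trans (specializes_of_eq (hz.trans hx).symm))
  exact ⟨x', hx', by rw [hd', hd]⟩

/-- The dimension of the fibre does not drop on generizations. -/
theorem fiber_dim_le_generization (y : Y) (h : ∀ x : X, f.base x = y → EGA43.IsOpenAt f.base x)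
    {y' : Y} (hy' : y' ⤳ y) : topologicalKrullDim (f.fiber y) ≤ topologicalKrullDim (f.fiber y') := by
  refine (FibDimLib.topologicalKrullDim_fiber_le_iff f y _).mpr fun x hx => ?_
  obtain ⟨x', rfl, hd⟩ := exists_generization_ge f y h x hx hy'
  exact hd.trans (FibDimLib.fibreClosureDim_le_fiber f x')

end EquidimLib
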