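import Mathlib
import Groth.Agent.EquidimLib.GeomReduced
import Groth.Agent.EquidimLib.Subvariety
import Groth.Agent.S9501

/-!
# Components through a point of a geometrically reduced fibre
-/

set_option autoImplicit false

universe u

open CategoryTheory Limits AlgebraicGeometry TopologicalSpace Topology IsLocalRing

namespace EquidimLib

open UOpenLib

/-- A surjection whose target is flat over the base and whose source has maximal ideal coming from
the base is injective. -/
theorem injective_of_flat_quotient {A C D : Type u} [CommRing A] [IsLocalRing A] [CommRing C]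
    [IsLocalRing C] [IsNoetherianRing C] [CommRing D] [Nontrivial D] (φ : A →+* C) [IsLocalHom φ] (ψ : C →+* D)
    (hψ : Function.Surjective ψ) (hflat : (ψ.comp φ).Flat)
    (hm : maximalIdeal C ≤ (maximalIdeal A).map φ) : Function.Injective ψ := by
  letI := φ.toAlgebra
  letI := (ψ.comp φ).toAlgebra
  haveI : Module.Flat A D := hflat
  let π : C →ₗ[A] D :=
    { toFun := ψ, map_add' := map_add ψ, map_smul' := fun a c ↦ by
        simp [Algebra.smul_def, RingHom.algebraMap_toAlgebra] }
  let m := maximalIdeal A
  have hinj : Function.Injective ((LinearMap.ker π).subtype.lTensor (A ⧸ m)) :=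
    LinearMap.lTensor_injective_of_exact_of_flat π hψ _ Subtype.val_injective
      (LinearMap.exact_subtype_ker_map π) (A ⧸ m)
  have hle : RingHom.ker ψ ≤ maximalIdeal C :=
    IsLocalRing.le_maximalIdeal (RingHom.ker_ne_top ψ)
  have key : ∀ a : LinearMap.ker π, a ∈ m • (⊤ : Submodule A (LinearMap.ker π)) := by
    intro a
    rw [← Submodule.Quotient.mk_eq_zero, ← TensorProduct.quotTensorEquivQuotSMul_mk_one_tmul,
      LinearEquiv.map_eq_zero_iff]
    refine hinj ?_
    rw [map_zero, LinearMap.lTensor_tmul, ← (TensorProduct.quotTensorEquivQuotSMul C m).map_eq_zero_iff,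
      TensorProduct.quotTensorEquivQuotSMul_mk_one_tmul, Submodule.Quotient.mk_eq_zero,
      Ideal.smul_top_eq_map]
    exact hm (hle (show ψ a.1 = 0 from a.2))
  have hker : RingHom.ker ψ ≤ maximalIdeal C • RingHom.ker ψ := by
    intro c hc
    have h := key ⟨c, hc⟩
    have h2 : ∀ b : LinearMap.ker π, b ∈ m • (⊤ : Submodule A (LinearMap.ker π)) →
        b.1 ∈ m.map φ • RingHom.ker ψ := fun b hb ↦ by
      refine Submodule.smul_induction_on hb (fun r hr x _ ↦ ?_) (fun x y hx hy ↦ ?_)
      · show r • x.1 ∈ _
        rw [Algebra.smul_def]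
        exact Submodule.smul_mem_smul (Ideal.mem_map_of_mem _ hr) (show ψ x.1 = 0 from x.2)
      · exact add_mem hx hy
    have hle' : m.map φ ≤ maximalIdeal C := by
      rw [Ideal.map_le_iff_le_comap]
      intro r hr
      rw [Ideal.mem_comap]
      exact map_nonunit φ r hr
    exact Submodule.smul_mono_left hle' (h2 _ h)
  have hbot := Submodule.eq_bot_of_le_smul_of_le_jacobson_bot _ _ (IsNoetherian.noetherian _) hker
    (IsLocalRing.maximalIdeal_le_jacobson _)
  exact (RingHom.injective_iff_ker_eq_bot ψ).mpr hbot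

variable {X Y : Scheme.{u}}

/-- Geometric reducedness at a point only depends on an open neighbourhood. -/
theorem isGeomReducedAt_iff_of_isOpenImmersion {k : Type u} [Field k] {U F : Scheme.{u}} (m : U ⟶ F)
    [IsOpenImmersion m] (f : F ⟶ Spec (CommRingCat.of k)) (x : U) :
    FBase.IsGeomReducedAt (m ≫ f) x ↔ FBase.IsGeomReducedAt f (m.base x) := by
  let M (K : Type u) [Field K] [Algebra k K] : FBase.bc (m ≫ f) K ⟶ FBase.bc f K :=
    pullback.lift (FBase.bcπ (m ≫ f) K ≫ m) (FBase.bcStr (m ≫ f) K)
      ((Category.assoc _ _ _).trans pullback.condition)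
  have sq : ∀ (K : Type u) [Field K] [Algebra k K],
      IsPullback (FBase.bcπ (m ≫ f) K) (M K) m (FBase.bcπ f K) := fun K _ _ ↦ by
    refine IsPullback.of_bot ?_ (pullback.lift_fst _ _ _).symm
      (IsPullback.of_hasPullback f (Spec.map (CommRingCat.ofHom (algebraMap k K))))
    rw [show M K ≫ pullback.snd f (Spec.map (CommRingCat.ofHom (algebraMap k K))) =
        FBase.bcStr (m ≫ f) K from pullback.lift_snd _ _ _]
    exact IsPullback.of_hasPullback _ _
  constructor
  · intro h K _ _ a ha
    haveI : IsOpenImmersion (M K) := MorphismProperty.of_isPullback (P := @IsOpenImmersion) (sq K) inferInstance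
    obtain ⟨x', hx', rfl⟩ := image_fst_snd (sq K) x a ha.symm
    haveI := h K x' hx'
    exact isReduced_of_injective ((M K).stalkMap x').hom
      (ConcreteCategory.bijective_of_isIso ((M K).stalkMap x')).1
  · intro h K _ _ x' hx'
    haveI : IsOpenImmersion (M K) := MorphismProperty.of_isPullback (P := @IsOpenImmersion) (sq K) inferInstance
    haveI := h K ((M K).base x') (by
      rw [← Scheme.Hom.comp_apply, ← (sq K).w, Scheme.Hom.comp_apply, hx'])
    exact isReduced_of_injective (inv ((M K).stalkMap x')).hom
      (ConcreteCategory.bijective_of_isIso (inv ((M K).stalkMap x'))).1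

/-- Geometric reducedness at a point of a fibre, indexed by the point of the total space. -/
theorem isGeomReducedAt_congr (f : X ⟶ Y) {y y' : Y} {a : ↥(f.fiber y)} {a' : ↥(f.fiber y')}
    (e : (f.fiberι y).base a = (f.fiberι y').base a')
    (h : FBase.IsGeomReducedAt (f.fiberToSpecResidueField y) a) :
    FBase.IsGeomReducedAt (f.fiberToSpecResidueField y') a' := by
  have hy : ∀ (v : Y) (c : ↥(f.fiber v)), f.base ((f.fiberι v).base c) = v := fun v c ↦ by
    have h' := Set.mem_range_self (f := (f.fiberι v).base) c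
    rw [f.range_fiberι] at h'
    exact h'
  obtain rfl : y = y' := by rw [← hy y a, e, hy]
  obtain rfl : a = a' := (f.fiberι y).isEmbedding.injective e
  exact h

/-- The local ring of a geometrically reduced fibre at a maximal point is a field. -/
theorem isField_stalk_fiber (f : X ⟶ Y) (z : X) (hmax : IsFibreMax f z)
    (hred : FBase.IsGeomReducedAt (f.fiberToSpecResidueField (f.base z)) (f.asFiber z)) :
    IsField ((f.fiber (f.base z)).presheaf.stalk (f.asFiber z)) := by
  let F := f.fiber (f.base z)
  let q := F.fromSpecStalk (f.asFiber z)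
  haveI : _root_.IsReduced (F.presheaf.stalk (f.asFiber z)) :=
    DvrFlatLib.isReduced_fiber_baseChange f z hred IsPullback.of_id_fst z rfl
  haveI : Ring.KrullDimLE 0 (F.presheaf.stalk (f.asFiber z)) := Ring.KrullDimLE.mk₀ fun P hP ↦ by
    let p : Spec (F.presheaf.stalk (f.asFiber z)) := ⟨P, hP⟩
    have h1 : q.base p ∈ Set.range q.base := ⟨p, rfl⟩
    rw [Scheme.range_fromSpecStalk] at h1
    have h2 := (show q.base p ⤳ f.asFiber z from h1).map (f.fiberι (f.base z)).continuous
    rw [f.fiberι_asFiber] at h2
    have h3 : f.base ((f.fiberι (f.base z)).base (q.base p)) = f.base z := by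
      have h' := Set.mem_range_self (f := (f.fiberι (f.base z)).base) (q.base p)
      rw [f.range_fiberι] at h'
      exact h'
    have h4 := hmax _ h3 h2.mem_closure
    have h5 : q.base p = q.base (closedPoint _) := by
      refine Eq.trans ?_ Scheme.fromSpecStalk_closedPoint.symm
      exact (f.fiberι (f.base z)).isEmbedding.injective (h4.trans (f.fiberι_asFiber z).symm)
    have h6 : P = maximalIdeal _ :=
      congrArg PrimeSpectrum.asIdeal (q.isEmbedding.injective h5)
    rw [h6]
    exact maximalIdeal.isMaximal _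
  exact Ring.KrullDimLE.isField_of_isReduced

theorem injective_of_isField {R S : Type u} [CommRing R] [CommRing S] [Nontrivial S] (hR : IsField R)
    (φ : R →+* S) : Function.Injective φ := by
  rw [injective_iff_map_eq_zero]
  intro a ha
  by_contra hne
  obtain ⟨b, hb⟩ := hR.mul_inv_cancel hne
  exact one_ne_zero (α := S) (by rw [← map_one φ, ← hb, map_mul, ha, zero_mul])

/-- A closed subscheme through a maximal point of a geometrically reduced fibre has geometrically
reduced fibre there. -/
theorem isGeomReducedAt_closedImmersion {W : Scheme.{u}} (f : X ⟶ Y) [LocallyOfFiniteType f]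
    (j : W ⟶ X) [IsClosedImmersion j] (w : W) (hmax : IsFibreMax f (j.base w))
    (hred : FBase.IsGeomReducedAt (f.fiberToSpecResidueField (f.base (j.base w))) (f.asFiber (j.base w))) :
    FBase.IsGeomReducedAt ((j ≫ f).fiberToSpecResidueField ((j ≫ f).base w)) ((j ≫ f).asFiber w) := by
  let y := (j ≫ f).base w
  let φ : (j ≫ f).fiber y ⟶ f.fiber y :=
    pullback.map (j ≫ f) (Y.fromSpecResidueField y) f (Y.fromSpecResidueField y) j (𝟙 _) (𝟙 _) (by simp) (by simp)
  have hφ1 : φ ≫ f.fiberι y = (j ≫ f).fiberι y ≫ j := pullback.lift_fst _ _ _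
  have hφ2 : φ ≫ f.fiberToSpecResidueField y = (j ≫ f).fiberToSpecResidueField y :=
    (pullback.lift_snd _ _ _).trans (Category.comp_id _)
  have sq : IsPullback ((j ≫ f).fiberι y) φ j (f.fiberι y) := by
    refine IsPullback.of_bot ?_ hφ1.symm (IsPullback.of_hasPullback f (Y.fromSpecResidueField y))
    rw [show φ ≫ pullback.snd f (Y.fromSpecResidueField y) = _ from hφ2]
    exact IsPullback.of_hasPullback _ _
  haveI : IsClosedImmersion φ := MorphismProperty.of_isPullback (P := @IsClosedImmersion) sq inferInstance
  haveI : LocallyOfFiniteType (f.fiberToSpecResidueField y) :=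
    MorphismProperty.pullback_snd _ _ inferInstance
  haveI : IsLocallyNoetherian (f.fiber y) :=
    LocallyOfFiniteType.isLocallyNoetherian (f.fiberToSpecResidueField y)
  haveI : LocallyOfFinitePresentation φ := inferInstance
  let w' : ↥((j ≫ f).fiber y) := (j ≫ f).asFiber w
  have hw' : φ.base w' = f.asFiber (j.base w) := (f.fiberι y).isEmbedding.injective (by
    rw [← Scheme.Hom.comp_apply, hφ1, Scheme.Hom.comp_apply, (j ≫ f).fiberι_asFiber]
    exact (f.fiberι_asFiber _).symm)
  have hF : IsField ((f.fiber y).presheaf.stalk (φ.base w')) :=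
    hw'.symm ▸ isField_stalk_fiber f (j.base w) hmax hred
  have hflat : (φ.stalkMap w').hom.Flat :=
    RingHom.Flat.of_bijective ⟨injective_of_isField hF _, φ.stalkMap_surjective w'⟩
  obtain ⟨O, hO, hOflat⟩ := FlatLib.exists_open_flat φ hflat
  haveI := hOflat
  haveI : IsOpenImmersion (O.ι ≫ φ) := IsOpenImmersion.of_flat_of_mono _
  have h1 : FBase.IsGeomReducedAt (f.fiberToSpecResidueField y) ((O.ι ≫ φ).base ⟨w', hO⟩) :=
    hw'.symm ▸ hred
  have h2 := (isGeomReducedAt_iff_of_isOpenImmersion (k := Y.residueField y) (O.ι ≫ φ)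
    (f.fiberToSpecResidueField y) ⟨w', hO⟩).mpr h1
  rw [Category.assoc, hφ2] at h2
  exact (isGeomReducedAt_iff_of_isOpenImmersion (k := Y.residueField y) O.ι
    ((j ≫ f).fiberToSpecResidueField y) ⟨w', hO⟩).mp h2

/-- Over a reduced base a morphism universally open at a geometrically reduced maximal point of a
fibre is flat there. -/
theorem flat_stalkMap_of_univOpen_max [IsLocallyNoetherian Y] (f : X ⟶ Y) [LocallyOfFiniteType f]
    (x : X) (hY : _root_.IsReduced (Y.presheaf.stalk (f.base x))) (hmax : IsFibreMax f x)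
    (hopen : EGA43.IsUnivOpenAt f x)
    (hred : FBase.IsGeomReducedAt (f.fiberToSpecResidueField (f.base x)) (f.asFiber x)) :
    (f.stalkMap x).hom.Flat := by
  refine DvrFlatLib.flat_stalkMap_of_univOpen f x (fun z hz _ ↦ ?_) hred hY
  have h1 := ((specializes_iff_mem_closure.mpr hz).map (f.fiberι (f.base x)).continuous)
  rw [f.fiberι_asFiber] at h1
  have h2 : f.base ((f.fiberι (f.base x)).base z) = f.base x := by
    have h' := Set.mem_range_self (f := (f.fiberι (f.base x)).base) z
    rw [f.range_fiberι] at h'
    exact h'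
  rw [hmax _ h2 h1.mem_closure]
  exact hopen

/-- A closed subscheme universally open at a maximal point of a geometrically reduced fibre
contains all generizations of that point. -/
theorem mem_range_of_univOpen {W : Scheme.{u}} [IsLocallyNoetherian Y] (f : X ⟶ Y) [LocallyOfFiniteType f]
    (j : W ⟶ X) [IsClosedImmersion j] (w : W) (hY : _root_.IsReduced (Y.presheaf.stalk (f.base (j.base w))))
    (hmax : IsFibreMax f (j.base w))
    (hred : FBase.IsGeomReducedAt (f.fiberToSpecResidueField (f.base (j.base w))) (f.asFiber (j.base w)))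
    (hopen : EGA43.IsUnivOpenAt (j ≫ f) w) {ζ : X} (hζ : ζ ⤳ j.base w) : ζ ∈ Set.range j.base := by
  haveI : IsLocallyNoetherian X := LocallyOfFiniteType.isLocallyNoetherian f
  have hflat : ((j ≫ f).stalkMap w).hom.Flat := by
    refine flat_stalkMap_of_univOpen_max (j ≫ f) w hY (fun w' h1 h2 ↦ ?_) hopen
      (isGeomReducedAt_closedImmersion f j w hmax hred)
    exact j.isEmbedding.injective (hmax (j.base w') h1
      ((specializes_iff_mem_closure.mpr h2).map j.continuous).mem_closure)
  rw [Scheme.Hom.stalkMap_comp] at hflat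
  have hm : maximalIdeal (X.presheaf.stalk (j.base w)) ≤
      (maximalIdeal (Y.presheaf.stalk (f.base (j.base w)))).map (f.stalkMap (j.base w)).hom := by
    let ι := f.fiberι (f.base (j.base w))
    have hF := isField_stalk_fiber f (j.base w) hmax hred
    suffices h : maximalIdeal (X.presheaf.stalk (ι.base (f.asFiber (j.base w)))) ≤
        (maximalIdeal (Y.presheaf.stalk (f.base (ι.base (f.asFiber (j.base w)))))).map
          (f.stalkMap (ι.base (f.asFiber (j.base w)))).hom by
      rwa [show ι.base (f.asFiber (j.base w)) = j.base w from f.fiberι_asFiber _] at h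
    obtain ⟨hs, hk⟩ := Groth.Agent.S9501.result f (f.base (j.base w)) (f.asFiber (j.base w))
    rw [← hk]
    intro a ha
    rw [RingHom.mem_ker]
    by_contra hne
    obtain ⟨b, hb⟩ := hF.mul_inv_cancel hne
    haveI : IsLocalHom (ι.stalkMap (f.asFiber (j.base w))).hom := ι.toLRSHom.prop _
    exact (IsLocalRing.mem_maximalIdeal _).mp ha
      (isUnit_of_map_unit (ι.stalkMap (f.asFiber (j.base w))).hom a (IsUnit.of_mul_eq_one b hb))
  haveI : IsLocalHom (f.stalkMap (j.base w)).hom := f.toLRSHom.prop _
  have hinj := injective_of_flat_quotient (f.stalkMap (j.base w)).hom (j.stalkMap w).hom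
    (j.stalkMap_surjective w) (show ((j.stalkMap w).hom.comp (f.stalkMap (j.base w)).hom).Flat from hflat) hm
  haveI : IsIso (j.stalkMap w) :=
    (ConcreteCategory.isIso_iff_bijective _).mpr ⟨hinj, j.stalkMap_surjective w⟩
  have h1 : ζ ∈ Set.range (X.fromSpecStalk (j.base w)).base := by
    rw [Scheme.range_fromSpecStalk]; exact hζ
  obtain ⟨p, rfl⟩ := h1
  obtain ⟨p', rfl⟩ := (Scheme.Hom.homeomorph (Spec.map (j.stalkMap w))).surjective p
  refine ⟨(W.fromSpecStalk w).base p', ?_⟩
  rw [← Scheme.Hom.comp_apply, ← Scheme.SpecMap_stalkMap_fromSpecStalk, Scheme.Hom.comp_apply]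
  rfl

end EquidimLib
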